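import Groth.Agent.AlgSp.K619.MonoSingle
import Groth.Agent.AlgSp.K596.QC2
import Groth.Agent.AlgSp.K597.LocP
import Groth.Agent.AlgSp.K613.Chart
import Groth.Agent.AlgSp.K609.Points
import Groth.Agent.AlgSp.K603.UnivClosedAux
import Mathlib.Topology.NoetherianSpace
import Mathlib.AlgebraicGeometry.Morphisms.ClosedImmersion

/-!
Quasi-compactness of a monomorphism `F ⟶ h_T`, `T` affine Noetherian, by Noetherian induction on closed subsets of `T`.
-/

set_option autoImplicit false
set_option backward.isDefEq.respectTransparency false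
set_option backward.isDefEq.respectTransparency.types false

universe u v w

open CategoryTheory CategoryTheory.Limits AlgebraicGeometry Opposite TopologicalSpace

namespace K745.QcNoeth

/-- Noetherian induction for compactness of preimages. -/
theorem isCompact_preimage_of_strat {X : Type v} {T : Type w} [TopologicalSpace X] [TopologicalSpace T] [NoetherianSpace T]
    (q : X → T)
    (h : ∀ Z : Set T, IsIrreducible Z → IsClosed Z → ∃ V : Set T, IsOpen V ∧ (V ∩ Z).Nonempty ∧
      IsCompact (q ⁻¹' (V ∩ Z))) (Z : Closeds T) : IsCompact (q ⁻¹' (Z : Set T)) := by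
  have wf : WellFounded (fun a b : Closeds T => a < b) := (inferInstance : WellFoundedLT (Closeds T)).wf
  induction Z using wf.induction with
  | _ Z ih =>
    by_cases hne : (Z : Set T).Nonempty
    · by_cases hir : IsIrreducible (Z : Set T)
      · obtain ⟨V, hV, ⟨x, hxV, hxZ⟩, hc⟩ := h Z hir Z.isClosed
        let Z' : Closeds T := ⟨(Z : Set T) \ V, Z.isClosed.sdiff hV⟩
        have hlt : Z' < Z := by
          refine lt_of_le_of_ne (fun t ht => ht.1) (fun he => ?_)
          have : x ∈ (Z' : Set T) := by rw [he]; exact hxZ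
          exact this.2 hxV
        have h1 := hc.union (ih Z' hlt)
        convert h1 using 1
        rw [← Set.preimage_union]
        congr 1
        ext t
        simp only [Z', Set.mem_union, Set.mem_inter_iff, Closeds.coe_mk, Set.mem_sdiff]
        tauto
      · have : ¬ IsPreirreducible (Z : Set T) := fun hp => hir ⟨hne, hp⟩
        rw [isPreirreducible_iff_isClosed_union_isClosed] at this
        push Not at this
        obtain ⟨Z₁, Z₂, h₁, h₂, hsub, hn₁, hn₂⟩ := this
        let A : Closeds T := ⟨Z ∩ Z₁, Z.isClosed.inter h₁⟩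
        let B : Closeds T := ⟨Z ∩ Z₂, Z.isClosed.inter h₂⟩
        have hA : A < Z := by
          refine lt_of_le_of_ne (fun t ht => ht.1) (fun he => hn₁ (fun t ht => ?_))
          have : t ∈ (A : Set T) := by rw [he]; exact ht
          exact this.2
        have hB : B < Z := by
          refine lt_of_le_of_ne (fun t ht => ht.1) (fun he => hn₂ (fun t ht => ?_))
          have : t ∈ (B : Set T) := by rw [he]; exact ht
          exact this.2
        have h1 := (ih A hA).union (ih B hB)
        convert h1 using 1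
        rw [← Set.preimage_union]
        congr 1
        ext t
        simp only [A, B, Set.mem_union, Set.mem_inter_iff, Closeds.coe_mk, SetLike.mem_coe]
        constructor
        · intro ht
          rcases hsub ht with h | h
          · exact Or.inl ⟨ht, h⟩
          · exact Or.inr ⟨ht, h⟩
        · rintro (h | h)
          · exact h.1
          · exact h.1
    · rw [Set.not_nonempty_iff_eq_empty] at hne
      rw [hne, Set.preimage_empty]
      exact isCompact_empty

theorem compactSpace_of_strat {X : Type v} {T : Type w} [TopologicalSpace X] [TopologicalSpace T] [NoetherianSpace T]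
    (q : X → T)
    (h : ∀ Z : Set T, IsIrreducible Z → IsClosed Z → ∃ V : Set T, IsOpen V ∧ (V ∩ Z).Nonempty ∧
      IsCompact (q ⁻¹' (V ∩ Z))) : CompactSpace X := by
  have h1 := isCompact_preimage_of_strat q h ⊤
  exact ⟨by simpa using h1⟩


/-- An irreducible closed subset of an affine scheme is the image of the spectrum of a domain. -/
theorem exists_domain (T : Scheme.{u}) [IsAffine T] {Z : Set ↥T} (hZ : IsIrreducible Z) (hZc : IsClosed Z) :
    ∃ (A : Type u) (_ : CommRing A) (_ : IsDomain A) (i : Spec (CommRingCat.of A) ⟶ T),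
      IsClosedImmersion i ∧ Set.range i = Z := by
  let j : Spec Γ(T, ⊤) ⟶ T := T.isoSpec.inv
  have hj : IsHomeomorph j := (Scheme.homeoOfIso T.isoSpec.symm).isHomeomorph
  let Z' : Set (PrimeSpectrum Γ(T, ⊤)) := j ⁻¹' Z
  have hjZ : j '' Z' = Z := Set.image_preimage_eq _ hj.surjective
  have hZ'c : IsClosed Z' := hZc.preimage hj.continuous
  have hZ'i : IsIrreducible Z' := by
    have h1 : Z' = T.isoSpec.hom '' Z := by
      ext t
      constructor
      · intro ht
        exact ⟨j t, ht, by
          change (T.isoSpec.inv ≫ T.isoSpec.hom) t = t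
          simp⟩
      · rintro ⟨z, hz, rfl⟩
        change (T.isoSpec.hom ≫ T.isoSpec.inv) z ∈ Z
        simpa using hz
    rw [h1]
    exact hZ.image _ (T.isoSpec.hom.continuous.continuousOn)
  let I : Ideal Γ(T, ⊤) := PrimeSpectrum.vanishingIdeal Z'
  have hI : I.IsPrime := PrimeSpectrum.isIrreducible_iff_vanishingIdeal_isPrime.1 hZ'i
  refine ⟨Γ(T, ⊤) ⧸ I, inferInstance, inferInstance, Spec.map (CommRingCat.ofHom (Ideal.Quotient.mk I)) ≫ j, ?_, ?_⟩
  · have : IsClosedImmersion (Spec.map (CommRingCat.ofHom (Ideal.Quotient.mk I))) :=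
      IsClosedImmersion.spec_of_surjective _ Ideal.Quotient.mk_surjective
    infer_instance
  · rw [show (⇑(Spec.map (CommRingCat.ofHom (Ideal.Quotient.mk I)) ≫ j) : _ → _) = ⇑j ∘ ⇑(Spec.map (CommRingCat.ofHom (Ideal.Quotient.mk I))) from rfl, Set.range_comp, ← hjZ]
    congr 1
    have h1 : Set.range (PrimeSpectrum.comap (Ideal.Quotient.mk I)) = PrimeSpectrum.zeroLocus (RingHom.ker (Ideal.Quotient.mk I)) :=
      _root_.range_comap_of_surjective _ _ Ideal.Quotient.mk_surjective
    rw [Ideal.mk_ker, PrimeSpectrum.zeroLocus_vanishingIdeal_eq_closure, hZ'c.closure_eq] at h1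
    exact h1


open AlgSp

variable {S : Scheme.{u}}

/-- A point of `h_T` with values in a field lifts along a monomorphism `F ⟶ h_T` as soon as it is in the image. -/
theorem exists_sec_of_point {F : Sp S} (hF : IsAlgSpace F) {T : Over S} (q : F ⟶ (yon S).obj T) [Mono q]
    {K : Type u} [Field K] {str : Spec (CommRingCat.of K) ⟶ S} (t : Over.mk str ⟶ T)
    (pt : ↥(Spec (CommRingCat.of K))) (x : Points F) (hx : Points.map q x = Points.ofScheme T (t.left pt)) :
    ∃ s : (yon S).obj (Over.mk str) ⟶ F, s ≫ q = (yon S).map t := by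
  have sq := IsPullback.of_hasPullback q ((yon S).map t)
  have hP : IsAlgSpace (pullback q ((yon S).map t)) :=
    K613.Chart.isAlgSpace_pullback hF (IsAlgSpace.yon_obj _) (IsAlgSpace.yon_obj _) _ _
  obtain ⟨p, -, -⟩ := K609.Points.exists_of_isPullback sq x (Points.ofScheme (Over.mk str) pt) (by
    rw [hx, K609.Points.map_yon_map_ofScheme])
  obtain ⟨U, a, ha, has⟩ := hP.atlas
  obtain ⟨u, -⟩ := K609.Points.surjective_ofPt_of_repWith_surjective has p
  have hm : Mono (pullback.snd q ((yon S).map t)) := inferInstance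
  have hi : IsIso (pullback.snd q ((yon S).map t)) := by
    refine K619.MonoSingle.isIso_of_mono (IsAlgSpace.yon_obj _) _ (k := K) (str := str) (p := 𝟙 _) ?_ ?_ ?_ ha ⟨u⟩
    · refine K597.locP_of_repWith (P := @LocallyOfFinitePresentation)
        (fun _ _ _ e f he hf => by have := he; have := hf; infer_instance) ?_
      exact K609.Points.repWith_mono (P := @Etale) (fun f hf => by have := hf; infer_instance)
        (MorphismProperty.id_mem _ _)
    · refine K597.locP_of_repWith (P := @Flat)
        (fun _ _ _ e f he hf => by have := he; have := hf; infer_instance) ?_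
      exact K609.Points.repWith_mono (P := @Etale) (fun f hf => by have := hf; infer_instance)
        (MorphismProperty.id_mem _ _)
    · intro z
      exact ⟨z, Points.map_id z⟩
  exact ⟨inv (pullback.snd q ((yon S).map t)) ≫ pullback.fst _ _, by
    rw [Category.assoc, sq.w, IsIso.inv_hom_id_assoc]⟩

theorem compactSpace_points {F : Sp S} (hF : IsAlgSpace F) {T : Over S} [IsAffine T.left]
    [IsLocallyNoetherian T.left] (q : F ⟶ (yon S).obj T) [Mono q]
    (hc : ∀ (A : Type u) [CommRing A] [IsDomain A] (sA : Spec (CommRingCat.of A) ⟶ S) (g : Over.mk sA ⟶ T)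
      (D : Set ↥(Spec (CommRingCat.of A))), Dense D →
      (∀ p ∈ D, ∃ s : (yon S).obj (Over.mk ((Spec (CommRingCat.of A)).fromSpecResidueField p ≫ sA)) ⟶ F,
        s ≫ q = (yon S).map ((Over.homMk ((Spec (CommRingCat.of A)).fromSpecResidueField p) rfl :
          Over.mk ((Spec (CommRingCat.of A)).fromSpecResidueField p ≫ sA) ⟶ Over.mk sA) ≫ g)) →
      ∃ U : (Spec (CommRingCat.of A)).Opens, (U : Set ↥(Spec (CommRingCat.of A))).Nonempty ∧
        ∃ s : (yon S).obj (Over.mk (U.ι ≫ sA)) ⟶ F,
          s ≫ q = (yon S).map ((Over.homMk U.ι rfl : Over.mk (U.ι ≫ sA) ⟶ Over.mk sA) ≫ g)) :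
    CompactSpace (Points F) := by
  have : IsNoetherian T.left := {}
  have : NoetherianSpace ↥T.left := inferInstance
  have hqi := K603.UnivClosedAux.injective_of_mono q
  let r : Points F → ↥T.left := fun x => Points.toScheme T (Points.map q x)
  have hr : ∀ (x : Points F) (t : ↥T.left), r x = t → Points.map q x = Points.ofScheme T t := by
    intro x t h
    rw [← h, Points.ofScheme_toScheme]
  have hri : Function.Injective r := by
    intro x x' h
    refine hqi ?_
    rw [hr x _ h, ← hr x' _ rfl]
  refine compactSpace_of_strat r fun Z hZ hZc => ?_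
  obtain ⟨A, _, _, i, hi, hiZ⟩ := exists_domain T.left hZ hZc
  let sA : Spec (CommRingCat.of A) ⟶ S := i ≫ T.hom
  let g : Over.mk sA ⟶ T := Over.homMk i rfl
  have hind : Topology.IsEmbedding i := i.isClosedEmbedding.isEmbedding
  have : NoetherianSpace ↥(Spec (CommRingCat.of A)) := hind.isInducing.noetherianSpace
  let D : Set ↥(Spec (CommRingCat.of A)) := { p |
    ∃ s : (yon S).obj (Over.mk ((Spec (CommRingCat.of A)).fromSpecResidueField p ≫ sA)) ⟶ F,
        s ≫ q = (yon S).map ((Over.homMk ((Spec (CommRingCat.of A)).fromSpecResidueField p) rfl :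
          Over.mk ((Spec (CommRingCat.of A)).fromSpecResidueField p ≫ sA) ⟶ Over.mk sA) ≫ g) }
  have hD : ∀ (x : Points F) (u : ↥(Spec (CommRingCat.of A))), r x = i u → u ∈ D := by
    intro x u hx
    refine exists_sec_of_point hF q _ (IsLocalRing.closedPoint _) x ?_
    rw [hr x _ hx]
    congr 1
    change i u = i (((Spec (CommRingCat.of A)).fromSpecResidueField u) _)
    rw [Scheme.fromSpecResidueField_apply]
  by_cases hd : Dense D
  · obtain ⟨U, hUn, s, hs⟩ := hc A sA g D hd (fun p hp => hp)
    obtain ⟨V, hV, hVU⟩ := hind.isInducing.isOpen_iff.1 U.2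
    refine ⟨V, hV, ?_, ?_⟩
    · obtain ⟨u, hu⟩ := hUn
      have : u ∈ i ⁻¹' V := by rw [hVU]; exact hu
      exact ⟨i u, this, by rw [← hiZ]; exact ⟨u, rfl⟩⟩
    · have hrs : ∀ u : ↥(Over.mk (U.ι ≫ sA)).left, r (Points.ofPt s u) = i (U.ι u) := by
        intro u
        change Points.toScheme T (Points.map q (Points.ofPt s u)) = _
        rw [Points.map_ofPt, hs, Points.toScheme_ofPt]
        rfl
      have : CompactSpace ↥(Over.mk (U.ι ≫ sA)).left := by
        exact isCompact_iff_compactSpace.1 (NoetherianSpace.isCompact (U : Set ↥(Spec (CommRingCat.of A))))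
      have hcr : IsCompact (Set.range (Points.ofPt s)) := isCompact_range (Points.continuous_ofPt s)
      convert hcr using 1
      ext x
      constructor
      · rintro ⟨hxV, hxZ⟩
        rw [← hiZ] at hxZ
        obtain ⟨u, hu⟩ := hxZ
        have hu' : u ∈ U := by
          have : u ∈ i ⁻¹' V := by change i u ∈ V; rw [hu]; exact hxV
          rw [hVU] at this
          exact this
        exact ⟨⟨u, hu'⟩, hri ((hrs ⟨u, hu'⟩).trans hu)⟩
      · rintro ⟨u, rfl⟩
        refine ⟨?_, ?_⟩
        · change r (Points.ofPt s u) ∈ V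
          rw [hrs]
          have : U.ι u ∈ i ⁻¹' V := by rw [hVU]; exact u.2
          exact this
        · rw [← hiZ, hrs]
          exact ⟨_, rfl⟩
  · obtain ⟨V, hV, hVU⟩ := hind.isInducing.isOpen_iff.1 (isClosed_closure (s := D)).isOpen_compl
    obtain ⟨u, hu⟩ : ((closure D)ᶜ).Nonempty := by
      rw [Set.nonempty_compl]
      exact fun h => hd (dense_iff_closure_eq.2 h)
    refine ⟨V, hV, ⟨i u, by change u ∈ i ⁻¹' V; rw [hVU]; exact hu, by rw [← hiZ]; exact ⟨u, rfl⟩⟩, ?_⟩
    convert isCompact_empty using 1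
    refine Set.eq_empty_iff_forall_notMem.2 ?_
    rintro x ⟨hxV, hxZ⟩
    rw [← hiZ] at hxZ
    obtain ⟨v, hv⟩ := hxZ
    have hv' : v ∈ i ⁻¹' V := by change i v ∈ V; rw [hv]; exact hxV
    rw [hVU] at hv'
    exact hv' (subset_closure (hD x v hv.symm))

end K745.QcNoeth

namespace K745.QcNoeth

open AlgSp

variable {S : Scheme.{u}}

theorem isQuasiCompactMor_of_compactSpace {F : Sp S} (hF : IsAlgSpace F) {T : Over S} [IsAffine T.left]
    (q : F ⟶ (yon S).obj T) (hc : CompactSpace (Points F)) : IsQuasiCompactMor q := by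
  obtain ⟨U, p, hU, hp, hs⟩ := K609.QC.exists_affine_chart (K609.QC.isQuasiCompactSp_of_compactSpace hF)
  refine K596.QC.isQuasiCompactMor_of_surjective_comp hF (IsAlgSpace.yon_obj _)
    (K609.Points.surjective_map_of_repWith_surjective hs) ?_
  obtain ⟨h, hh⟩ := (yon S).map_surjective (p ≫ q)
  rw [← hh]
  refine K596.QC.isQuasiCompactMor_of_repWith ((repWith_yon_map_iff _ _).2 ?_)
  have : IsAffine U.left := hU
  change QuasiCompact h.left
  infer_instance

end K745.QcNoeth

namespace K745.QcNoeth

open AlgSp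

variable {S : Scheme.{u}}

/-- Compactness of an algebraic space over an affine Noetherian scheme by Noetherian induction: it is enough that over
every integral closed subscheme `Spec A` over which the points of the space are dense there is a nonempty open over
which the space is quasi-compact. -/
theorem compactSpace_points_gen {F : Sp S} {T : Over S} [IsAffine T.left]
    [IsLocallyNoetherian T.left] (q : F ⟶ (yon S).obj T)
    (hc : ∀ (A : Type u) [CommRing A] [IsDomain A] (sA : Spec (CommRingCat.of A) ⟶ S) (g : Over.mk sA ⟶ T)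
      (D : Set ↥(Spec (CommRingCat.of A))), Dense D →
      (∀ t ∈ D, ∃ x : Points F, Points.map q x = Points.ofScheme T (g.left t)) →
      ∃ V : (Spec (CommRingCat.of A)).Opens, (V : Set ↥(Spec (CommRingCat.of A))).Nonempty ∧
        ∀ {P : Sp S} (fst : P ⟶ F) (snd : P ⟶ (yon S).obj (Over.mk (V.ι ≫ sA))),
          IsPullback fst snd q ((yon S).map ((Over.homMk V.ι rfl : Over.mk (V.ι ≫ sA) ⟶ Over.mk sA) ≫ g)) →
          CompactSpace (Points P)) :
    CompactSpace (Points F) := by
  have : IsNoetherian T.left := {}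
  have : NoetherianSpace ↥T.left := inferInstance
  let r : Points F → ↥T.left := fun x => Points.toScheme T (Points.map q x)
  have hr : ∀ (x : Points F) (t : ↥T.left), r x = t → Points.map q x = Points.ofScheme T t := by
    intro x t h
    rw [← h, Points.ofScheme_toScheme]
  refine compactSpace_of_strat r fun Z hZ hZc => ?_
  obtain ⟨A, _, _, i, hi, hiZ⟩ := exists_domain T.left hZ hZc
  let sA : Spec (CommRingCat.of A) ⟶ S := i ≫ T.hom
  let g : Over.mk sA ⟶ T := Over.homMk i rfl
  have hind : Topology.IsEmbedding i := i.isClosedEmbedding.isEmbedding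
  have : NoetherianSpace ↥(Spec (CommRingCat.of A)) := hind.isInducing.noetherianSpace
  let D : Set ↥(Spec (CommRingCat.of A)) := { t | ∃ x : Points F, Points.map q x = Points.ofScheme T (i t) }
  by_cases hd : Dense D
  · obtain ⟨U, hUn, hP⟩ := hc A sA g D hd (fun p hp => hp)
    obtain ⟨V, hV, hVU⟩ := hind.isInducing.isOpen_iff.1 U.2
    refine ⟨V, hV, ?_, ?_⟩
    · obtain ⟨u, hu⟩ := hUn
      have : u ∈ i ⁻¹' V := by rw [hVU]; exact hu
      exact ⟨i u, this, by rw [← hiZ]; exact ⟨u, rfl⟩⟩
    · have sq := IsPullback.of_hasPullback q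
        ((yon S).map ((Over.homMk U.ι rfl : Over.mk (U.ι ≫ sA) ⟶ Over.mk sA) ≫ g))
      have hcP := hP _ _ sq
      have hcr : IsCompact (Set.range (Points.map (pullback.fst q
        ((yon S).map ((Over.homMk U.ι rfl : Over.mk (U.ι ≫ sA) ⟶ Over.mk sA) ≫ g))))) :=
        isCompact_range (Points.continuous_map _)
      convert hcr using 1
      ext x
      constructor
      · rintro ⟨hxV, hxZ⟩
        rw [← hiZ] at hxZ
        obtain ⟨u, hu⟩ := hxZ
        have hu' : u ∈ U := by
          have : u ∈ i ⁻¹' V := by change i u ∈ V; rw [hu]; exact hxV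
          rw [hVU] at this
          exact this
        obtain ⟨p, hp, -⟩ := K609.Points.exists_of_isPullback sq x
          (Points.ofScheme (Over.mk (U.ι ≫ sA)) ⟨u, hu'⟩) (by
            rw [hr x _ hu.symm, K609.Points.map_yon_map_ofScheme]
            rfl)
        exact ⟨p, hp⟩
      · rintro ⟨p, rfl⟩
        obtain ⟨u, hu⟩ := K609.Points.ofScheme_surjective _ (Points.map (pullback.snd q
          ((yon S).map ((Over.homMk U.ι rfl : Over.mk (U.ι ≫ sA) ⟶ Over.mk sA) ≫ g))) p)
        have h1 : r (Points.map (pullback.fst q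
          ((yon S).map ((Over.homMk U.ι rfl : Over.mk (U.ι ≫ sA) ⟶ Over.mk sA) ≫ g))) p) = i (U.ι u) := by
          change Points.toScheme T (Points.map q (Points.map _ p)) = _
          rw [← Points.map_comp, sq.w, Points.map_comp, ← hu, K609.Points.map_yon_map_ofScheme,
            Points.toScheme_ofScheme]
          rfl
        refine ⟨?_, ?_⟩
        · rw [h1]
          have : U.ι u ∈ i ⁻¹' V := by rw [hVU]; exact u.2
          exact this
        · rw [← hiZ, h1]
          exact ⟨_, rfl⟩
  · obtain ⟨V, hV, hVU⟩ := hind.isInducing.isOpen_iff.1 (isClosed_closure (s := D)).isOpen_compl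
    obtain ⟨u, hu⟩ : ((closure D)ᶜ).Nonempty := by
      rw [Set.nonempty_compl]
      exact fun h => hd (dense_iff_closure_eq.2 h)
    refine ⟨V, hV, ⟨i u, by change u ∈ i ⁻¹' V; rw [hVU]; exact hu, by rw [← hiZ]; exact ⟨u, rfl⟩⟩, ?_⟩
    convert isCompact_empty using 1
    refine Set.eq_empty_iff_forall_notMem.2 ?_
    rintro x ⟨hxV, hxZ⟩
    rw [← hiZ] at hxZ
    obtain ⟨v, hv⟩ := hxZ
    have hv' : v ∈ i ⁻¹' V := by change i v ∈ V; rw [hv]; exact hxV
    rw [hVU] at hv'
    exact hv' (subset_closure ⟨x, hr x _ hv.symm⟩)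

end K745.QcNoeth
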