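import Groth.Agent.AlgSt.K745.DiagAtlas
import Groth.Agent.AlgSt.K745.QcNoeth

/-!
Two lemmas on representing spaces of Isom sheaves for S15358.
-/

set_option autoImplicit false
set_option backward.isDefEq.respectTransparency false
set_option backward.isDefEq.respectTransparency.types false

universe v₂ u₂ v u

open CategoryTheory CategoryTheory.Limits AlgebraicGeometry Opposite K735.Fib K735.Fp K735.Rep

namespace K745.DiagQcAux

open K745.Lift K745.Refine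

variable {S : Scheme.{u}} {𝒳 : BasedCategory.{v₂, u₂} (Over S)}

/-- A lift of the restriction of a pair of objects along the diagonal gives an isomorphism of the restrictions. -/
theorem iso_of_lift {U : Over S} {y : FibCat.overCat U ⥤ᵇ FibCat.fp (FibCat.toSelf 𝒳) (FibCat.toSelf 𝒳)}
    (yU : FibCat.overCat U ⥤ᵇ 𝒳) (i : BasedFunctor.comp yU (FibCat.diag (FibCat.toSelf 𝒳)) ≅ y) :
    Nonempty (BasedFunctor.comp y (FibCat.fpFst _ _) ≅ BasedFunctor.comp y (FibCat.fpSnd _ _)) := by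
  have i₁ : yU ≅ BasedFunctor.comp y (FibCat.fpFst _ _) :=
    whiskerRightIso i (FibCat.fpFst (FibCat.toSelf 𝒳) (FibCat.toSelf 𝒳))
  have i₂ : yU ≅ BasedFunctor.comp y (FibCat.fpSnd _ _) :=
    whiskerRightIso i (FibCat.fpSnd (FibCat.toSelf 𝒳) (FibCat.toSelf 𝒳))
  exact ⟨i₁.symm ≪≫ i₂⟩

/-- The same after a further restriction. -/
theorem iso_of_lift' {U' U T : Over S} (l : U' ⟶ U) (g : U ⟶ T)
    {y : FibCat.overCat T ⥤ᵇ FibCat.fp (FibCat.toSelf 𝒳) (FibCat.toSelf 𝒳)}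
    (yU : FibCat.overCat U' ⥤ᵇ 𝒳) (i : BasedFunctor.comp yU (FibCat.diag (FibCat.toSelf 𝒳)) ≅
      BasedFunctor.comp (AlgSt.overMap l) (BasedFunctor.comp (AlgSt.overMap g) y)) :
    Nonempty (BasedFunctor.comp (AlgSt.overMap l) (BasedFunctor.comp (BasedFunctor.comp (AlgSt.overMap g) y)
        (FibCat.fpFst _ _)) ≅
      BasedFunctor.comp (AlgSt.overMap l) (BasedFunctor.comp (BasedFunctor.comp (AlgSt.overMap g) y)
        (FibCat.fpSnd _ _))) :=
  iso_of_lift yU i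

theorem exists_field_iso {F : AlgSp.Sp S} {T : Over S}
    {y : FibCat.overCat T ⥤ᵇ FibCat.fp (FibCat.toSelf 𝒳) (FibCat.toSelf 𝒳)}
    (e : AlgSt.ofSp F ⥤ᵇ FibCat.fp y (FibCat.diag (FibCat.toSelf 𝒳))) (he : FibCat.IsEquivOver e)
    {Z : Over S} (g : Z ⟶ T) (t : ↥Z.left) (pt : AlgSp.Points F)
    (hpt : AlgSp.Points.map (q e) pt = AlgSp.Points.ofScheme T (g.left t)) :
    ∃ (L : Type u) (_ : Field L) (l : Spec (CommRingCat.of L) ⟶ Z.left), Set.range l.base = {t} ∧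
        Nonempty (BasedFunctor.comp (AlgSt.overMap (Over.homMk l rfl : Over.mk (l ≫ Z.hom) ⟶ Z))
          (BasedFunctor.comp (BasedFunctor.comp (AlgSt.overMap g) y) (FibCat.fpFst _ _)) ≅
          BasedFunctor.comp (AlgSt.overMap (Over.homMk l rfl : Over.mk (l ≫ Z.hom) ⟶ Z))
          (BasedFunctor.comp (BasedFunctor.comp (AlgSt.overMap g) y) (FibCat.fpSnd _ _))) := by
  have sq := IsPullback.of_hasPullback (q e) ((AlgSp.yon S).map g)
  obtain ⟨p, hp1, hp2⟩ := K609.Points.exists_of_isPullback sq pt (AlgSp.Points.ofScheme Z t) (by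
    rw [hpt, K609.Points.map_yon_map_ofScheme])
  obtain ⟨L, _, str, s, hs⟩ := K609.Points.exists_field_ofPt p
  obtain ⟨l, hl⟩ := (AlgSp.yon S).map_surjective (s ≫ pullback.snd (q e) ((AlgSp.yon S).map g))
  have hlt : ∀ z, l.left z = t := by
    intro z
    have h1 := hs z
    rw [← h1, AlgSp.Points.map_ofPt, ← hl, K609.Points.ofPt_yon_map] at hp2
    exact (AlgSp.Points.schemeEquiv _).injective hp2
  have hm : ∃ (l₀ : Spec (CommRingCat.of L) ⟶ Z.left) (m : Over.mk (l₀ ≫ Z.hom) ⟶ Over.mk str),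
      l₀ = l.left ∧ m ≫ l = Over.homMk l₀ rfl := by
    refine ⟨l.left, Over.homMk (𝟙 _) ((Category.id_comp _).trans (Over.w l).symm), rfl, ?_⟩
    ext1
    exact Category.id_comp _
  obtain ⟨l₀, m, hl₀, hml⟩ := hm
  refine ⟨L, inferInstance, l₀, ?_, ?_⟩
  · ext z
    rw [hl₀]
    constructor
    · rintro ⟨w, rfl⟩
      exact hlt w
    · rintro rfl
      exact ⟨IsLocalRing.closedPoint L, hlt _⟩
  · have h2 : ∃ s : (AlgSp.yon S).obj (Over.mk (l₀ ≫ Z.hom)) ⟶ F, s ≫ q e =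
        (AlgSp.yon S).map ((Over.homMk l₀ rfl : Over.mk (l₀ ≫ Z.hom) ⟶ Z) ≫ g) := by
      refine ⟨(AlgSp.yon S).map m ≫ s ≫ pullback.fst _ _, ?_⟩
      rw [Category.assoc, Category.assoc, sq.w, ← reassoc_of% hl, ← Functor.map_comp, ← Functor.map_comp,
        ← Category.assoc, hml]
    obtain ⟨yU, ⟨i⟩⟩ := (exists_lift_comp_iff e he _ g).2 h2
    exact iso_of_lift' _ g yU i

/-- A pair of functors from a pair of isomorphic functors. -/
theorem nonempty_diagIso {U : Over S} (y : FibCat.overCat U ⥤ᵇ FibCat.fp (FibCat.toSelf 𝒳) (FibCat.toSelf 𝒳))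
    (i : BasedFunctor.comp y (FibCat.fpFst _ _) ≅ BasedFunctor.comp y (FibCat.fpSnd _ _)) :
    Nonempty (FibCat.fpLift (BasedFunctor.comp y (FibCat.fpFst _ _)) (BasedFunctor.comp y (FibCat.fpFst _ _))
      (Iso.refl _) ≅ y) :=
  ⟨K735.Prod.prodExt (Iso.refl _) i⟩

theorem compactSpace_of_iso {F : AlgSp.Sp S} {T : Over S}
    {y : FibCat.overCat T ⥤ᵇ FibCat.fp (FibCat.toSelf 𝒳) (FibCat.toSelf 𝒳)}
    (e : AlgSt.ofSp F ⥤ᵇ FibCat.fp y (FibCat.diag (FibCat.toSelf 𝒳))) (he : FibCat.IsEquivOver e)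
    {Z : Over S} [CompactSpace ↥Z.left] (g : Z ⟶ T)
    (hi : ∀ (x : FibCat.overCat Z ⥤ᵇ 𝒳), RepOver AlgSp.IsQuasiCompactMor
      (FibCat.fpFst (FibCat.fpLift x x (Iso.refl _)) (FibCat.diag (FibCat.toSelf 𝒳))))
    (i : BasedFunctor.comp (BasedFunctor.comp (AlgSt.overMap g) y) (FibCat.fpFst _ _) ≅
      BasedFunctor.comp (BasedFunctor.comp (AlgSt.overMap g) y) (FibCat.fpSnd _ _))
    {P : AlgSp.Sp S} (fst : P ⟶ F) (snd : P ⟶ (AlgSp.yon S).obj Z)
    (sqP : IsPullback fst snd (q e) ((AlgSp.yon S).map g)) : CompactSpace (AlgSp.Points P) := by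
  have := K745.Inst.respectsIso_isQuasiCompactMor (S := S)
  obtain ⟨k, hk, hqk, -⟩ := exists_rep_overMap e he _ sqP
  obtain ⟨iy⟩ := nonempty_diagIso _ i
  have h4 : RepOver AlgSp.IsQuasiCompactMor (FibCat.fpFst (BasedFunctor.comp (AlgSt.overMap g) y)
      (FibCat.diag (FibCat.toSelf 𝒳))) :=
    (hi _).of_equiv (K734.Fib.fpCongrL iy.symm _) (K734.Fib.isEquivOver_fpCongrL iy.symm _) (Iso.refl _)
  obtain ⟨hPa, h5⟩ := h4.of_rep k hk
  have h5' : AlgSp.IsQuasiCompactMor snd := by rw [← hqk]; exact h5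
  have h6 : AlgSp.IsQuasiCompactSp P :=
    h5' (AlgSp.IsAlgSpace.yon_obj _) (K596.QC.isQuasiCompactSp_yon _) (𝟙 _) (𝟙 _) snd (IsPullback.id_horiz snd)
  exact K609.QC.compactSpace_points h6

theorem iso_restrict {U'' U' U : Over S} (a : U'' ⟶ U') (b : U' ⟶ U) (y₁ y₂ : FibCat.overCat U ⥤ᵇ 𝒳)
    (i : BasedFunctor.comp (AlgSt.overMap b) y₁ ≅ BasedFunctor.comp (AlgSt.overMap b) y₂) :
    Nonempty (BasedFunctor.comp (AlgSt.overMap (a ≫ b)) y₁ ≅ BasedFunctor.comp (AlgSt.overMap (a ≫ b)) y₂) := by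
  obtain ⟨m⟩ := exists_overMapComp a b
  have a₁ : BasedFunctor.comp (AlgSt.overMap (a ≫ b)) y₁ ≅
      BasedFunctor.comp (BasedFunctor.comp (AlgSt.overMap a) (AlgSt.overMap b)) y₁ :=
    whiskerRightIso m.symm y₁
  have a₂ : BasedFunctor.comp (AlgSt.overMap a) (BasedFunctor.comp (AlgSt.overMap b) y₁) ≅
      BasedFunctor.comp (AlgSt.overMap a) (BasedFunctor.comp (AlgSt.overMap b) y₂) :=
    whiskerLeftIso (AlgSt.overMap a) i
  have a₃ : BasedFunctor.comp (BasedFunctor.comp (AlgSt.overMap a) (AlgSt.overMap b)) y₂ ≅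
      BasedFunctor.comp (AlgSt.overMap (a ≫ b)) y₂ := whiskerRightIso m y₂
  exact ⟨a₁ ≪≫ a₂ ≪≫ a₃⟩

theorem iso_pair {U' U T : Over S} (j : U' ⟶ U) (g : U ⟶ T)
    (y : FibCat.overCat T ⥤ᵇ FibCat.fp (FibCat.toSelf 𝒳) (FibCat.toSelf 𝒳))
    (i : BasedFunctor.comp (AlgSt.overMap j) (BasedFunctor.comp (BasedFunctor.comp (AlgSt.overMap g) y)
        (FibCat.fpFst _ _)) ≅
      BasedFunctor.comp (AlgSt.overMap j) (BasedFunctor.comp (BasedFunctor.comp (AlgSt.overMap g) y)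
        (FibCat.fpSnd _ _))) :
    Nonempty (BasedFunctor.comp (BasedFunctor.comp (AlgSt.overMap (j ≫ g)) y) (FibCat.fpFst _ _) ≅
      BasedFunctor.comp (BasedFunctor.comp (AlgSt.overMap (j ≫ g)) y) (FibCat.fpSnd _ _)) := by
  obtain ⟨m⟩ := exists_overMapComp j g
  have a₁ : BasedFunctor.comp (AlgSt.overMap (j ≫ g)) (BasedFunctor.comp y (FibCat.fpFst _ _)) ≅
      BasedFunctor.comp (BasedFunctor.comp (AlgSt.overMap j) (AlgSt.overMap g)) (BasedFunctor.comp y (FibCat.fpFst _ _)) :=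
    whiskerRightIso m.symm _
  have a₃ : BasedFunctor.comp (BasedFunctor.comp (AlgSt.overMap j) (AlgSt.overMap g)) (BasedFunctor.comp y (FibCat.fpSnd _ _)) ≅
      BasedFunctor.comp (AlgSt.overMap (j ≫ g)) (BasedFunctor.comp y (FibCat.fpSnd _ _)) := whiskerRightIso m _
  exact ⟨a₁ ≪≫ i ≪≫ a₃⟩

end K745.DiagQcAux
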