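import Groth.Agent.AlgSt.K745.Refine
import Groth.Agent.S10505
import Groth.Agent.S10519
import Groth.Agent.AlgSp.K596.QC

/-!
Properties of representable morphisms which are fpqc local on the base can be tested on the affine opens of a smooth
surjective atlas.
-/

set_option autoImplicit false
set_option backward.isDefEq.respectTransparency false
set_option backward.isDefEq.respectTransparency.types false

universe v₃ u₃ v₂ u₂ v u

open CategoryTheory CategoryTheory.Limits AlgebraicGeometry Opposite K735.Fib K735.Fp K735.Rep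

namespace K745.Refine

open K745.Lift

variable {S : Scheme.{u}}

theorem isFpqcCover_yon {ι : Type u} {W : Over S} (T : ι → Over S) (g : ∀ i, T i ⟶ W)
    (hfl : ∀ i, Flat (g i).left) (hfp : ∀ i, LocallyOfFinitePresentation (g i).left)
    (hs : ∀ w : ↥W.left, ∃ i, w ∈ Set.range (g i).left) :
    AlgSp.IsFpqcCover (fun i => (AlgSp.yon S).obj (T i)) (fun i => (AlgSp.yon S).map (g i)) := by
  refine Groth.Agent.S10505.result (⟨(AlgSp.yon S).obj W, AlgSp.IsAlgSpace.yon_obj W⟩ : AlgSp.Space S)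
    (fun i => (⟨(AlgSp.yon S).obj (T i), AlgSp.IsAlgSpace.yon_obj (T i)⟩ : AlgSp.Space S))
    (fun i => ObjectProperty.homMk ((AlgSp.yon S).map (g i))) ⟨fun i => ⟨?_, ?_⟩, ?_⟩
  · exact K597.locP_of_repWith (P := @Flat)
        (fun _ _ _ e f he hf => by have := he; have := hf; infer_instance)
        ((AlgSp.repWith_yon_map_iff _ _).2 (hfl i))
  · exact K597.locP_of_repWith (P := @LocallyOfFinitePresentation)
        (fun _ _ _ e f he hf => by have := he; have := hf; infer_instance)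
        ((AlgSp.repWith_yon_map_iff _ _).2 (hfp i))
  · intro x
    obtain ⟨w, rfl⟩ := K609.Points.ofScheme_surjective W x
    obtain ⟨i, t, ht⟩ := hs w
    refine ⟨i, AlgSp.Points.ofScheme (T i) t, ?_⟩
    exact (K609.Points.map_yon_map_ofScheme (g i) t).trans (by rw [ht])

variable {𝒳 : BasedCategory.{v₂, u₂} (Over S)} {𝒴 : BasedCategory.{v₃, u₃} (Over S)}

/-- The inclusion of an open subscheme as a morphism over `S`. -/
noncomputable def opn (W : Over S) (T : W.left.Opens) : Over.mk (T.ι ≫ W.hom) ⟶ W := Over.homMk T.ι rfl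

theorem repByAlgSpWith_of_refines_affine_opens {W : Over S} {x : FibCat.overCat W ⥤ᵇ 𝒳} (hx : Refines x)
    {f : 𝒴 ⥤ᵇ 𝒳} (hf : AlgSt.RepByAlgSp1 f) (P : MorphismProperty (AlgSp.Sp S)) [P.RespectsIso]
    (hbc : ∀ {F F' : AlgSp.Sp S} {U U' : Over S} (a : F ⟶ (AlgSp.yon S).obj U) (g : U' ⟶ U) (p₁ : F' ⟶ F)
      (p₂ : F' ⟶ (AlgSp.yon S).obj U'), AlgSp.IsAlgSpace F → AlgSp.IsAlgSpace F' →
      IsPullback p₁ p₂ a ((AlgSp.yon S).map g) → P a → P p₂)
    (hloc : AlgSp.IsLocalOnBase (AlgSp.IsFpqcCover (S := S)) P)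
    (h : ∀ T : W.left.affineOpens, RepOver P (FibCat.fpFst (BasedFunctor.comp (AlgSt.overMap (opn W T.1)) x) f)) :
    AlgSt.RepByAlgSpWith P f := by
  obtain ⟨F₀, e₀, he₀⟩ := hf W x
  refine repByAlgSpWith_of_refines hx hf P hbc ?_ F₀.property e₀ he₀ ?_
  · intro F F' U U' a g p₁ p₂ hF hF' hg hg' sq hp
    have hfl : Flat g.left := inferInstance
    have hfp : LocallyOfFinitePresentation g.left := inferInstance
    have hcov := isFpqcCover_yon (fun _ : PUnit.{u + 1} => U') (fun _ => g) (fun _ => hfl) (fun _ => hfp)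
      (fun w => ⟨⟨⟩, hg'.surj w⟩)
    exact (hloc (fun _ : PUnit.{u + 1} => (AlgSp.yon S).obj U') (fun _ => (AlgSp.yon S).map g)
      (AlgSp.IsAlgSpace.yon_obj U) (fun _ => AlgSp.IsAlgSpace.yon_obj U') hcov a hF (fun _ => F') (fun _ => p₂)
      (fun _ => p₁) (fun _ => hF') (fun _ => sq)).2 (fun _ => hp)
  · have hcov := isFpqcCover_yon (fun T : W.left.affineOpens => Over.mk (T.1.ι ≫ W.hom)) (fun T => opn W T.1)
      (fun T => (inferInstance : Flat T.1.ι)) (fun T => (inferInstance : LocallyOfFinitePresentation T.1.ι))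
      (fun w => by
        obtain ⟨T, hT, hw, -⟩ := exists_isAffineOpen_mem_and_subset (X := W.left) (x := w) (U := ⊤) trivial
        exact ⟨⟨T, hT⟩, ⟨w, hw⟩, rfl⟩)
    have sq : ∀ T : W.left.affineOpens, IsPullback (pullback.fst (q e₀) ((AlgSp.yon S).map (opn W T.1)))
        (pullback.snd (q e₀) ((AlgSp.yon S).map (opn W T.1))) (q e₀) ((AlgSp.yon S).map (opn W T.1)) :=
      fun T => IsPullback.of_hasPullback _ _
    have hA : ∀ T : W.left.affineOpens, AlgSp.IsAlgSpace (pullback (q e₀) ((AlgSp.yon S).map (opn W T.1))) :=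
      fun T => K613.Chart.isAlgSpace_pullback F₀.property (AlgSp.IsAlgSpace.yon_obj _) (AlgSp.IsAlgSpace.yon_obj _) _ _
    refine (hloc _ _ (AlgSp.IsAlgSpace.yon_obj W) (fun T => AlgSp.IsAlgSpace.yon_obj _) hcov (q e₀) F₀.property
      _ _ _ hA sq).2 (fun T => ?_)
    obtain ⟨k, hk, hq, -⟩ := exists_rep_overMap e₀ he₀ (opn W T.1) (sq T)
    rw [← hq]
    exact ((h T).of_rep k hk).2

theorem repByAlgSpWith_of_affine_opens {W : Over S} {x : FibCat.overCat W ⥤ᵇ 𝒳}
    (hs : AlgSt.RepByAlgSpWith (AlgSp.LocP @Smooth) x) (hsurj : AlgSt.RepByAlgSpWith AlgSp.IsSurjectiveMor x)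
    {f : 𝒴 ⥤ᵇ 𝒳} (hf : AlgSt.RepByAlgSp1 f) (P : MorphismProperty (AlgSp.Sp S)) [P.RespectsIso]
    (hbc : ∀ {F F' : AlgSp.Sp S} {U U' : Over S} (a : F ⟶ (AlgSp.yon S).obj U) (g : U' ⟶ U) (p₁ : F' ⟶ F)
      (p₂ : F' ⟶ (AlgSp.yon S).obj U'), AlgSp.IsAlgSpace F → AlgSp.IsAlgSpace F' →
      IsPullback p₁ p₂ a ((AlgSp.yon S).map g) → P a → P p₂)
    (hloc : AlgSp.IsLocalOnBase (AlgSp.IsFpqcCover (S := S)) P)
    (h : ∀ T : W.left.affineOpens, RepOver P (FibCat.fpFst (BasedFunctor.comp (AlgSt.overMap (opn W T.1)) x) f)) :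
    AlgSt.RepByAlgSpWith P f :=
  repByAlgSpWith_of_refines_affine_opens (refines_of_rep hs hsurj) hf P hbc hloc h

/-- `IsQuasiCompactMor` can be tested on affine opens of an atlas. -/
theorem isQuasiCompactMor_of_refines_affine_opens {W : Over S} {x : FibCat.overCat W ⥤ᵇ 𝒳} (hx : Refines x)
    {f : 𝒴 ⥤ᵇ 𝒳} (hf : AlgSt.RepByAlgSp1 f)
    (h : ∀ T : W.left.affineOpens, RepOver AlgSp.IsQuasiCompactMor
      (FibCat.fpFst (BasedFunctor.comp (AlgSt.overMap (opn W T.1)) x) f)) :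
    AlgSt.RepByAlgSpWith AlgSp.IsQuasiCompactMor f := by
  have : (AlgSp.IsQuasiCompactMor (S := S)).RespectsIso := by
    apply MorphismProperty.RespectsIso.mk
    · intro X Y Z e f hf T Q hT hTc g a b sq
      refine hf hT hTc g (a ≫ e.hom) b ?_
      exact sq.of_iso (Iso.refl _) e (Iso.refl _) (Iso.refl _) (by simp) (by simp) (by simp) (by simp)
    · intro X Y Z e f hf T Q hT hTc g a b sq
      refine hf hT hTc (g ≫ e.inv) a b ?_
      exact sq.of_iso (Iso.refl _) (Iso.refl _) (Iso.refl _) e.symm (by simp) (by simp) (by simp) (by simp)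
  refine repByAlgSpWith_of_refines_affine_opens hx hf _ ?_ (Groth.Agent.S10519.result S) h
  intro F F' U U' a g p₁ p₂ _ _ sq hp
  exact K596.QC.isQuasiCompactMor_of_isPullback sq hp

/-- `IsQuasiCompactMor` can be tested on affine opens of an atlas. -/
theorem isQuasiCompactMor_of_affine_opens {W : Over S} {x : FibCat.overCat W ⥤ᵇ 𝒳}
    (hs : AlgSt.RepByAlgSpWith (AlgSp.LocP @Smooth) x) (hsurj : AlgSt.RepByAlgSpWith AlgSp.IsSurjectiveMor x)
    {f : 𝒴 ⥤ᵇ 𝒳} (hf : AlgSt.RepByAlgSp1 f)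
    (h : ∀ T : W.left.affineOpens, RepOver AlgSp.IsQuasiCompactMor
      (FibCat.fpFst (BasedFunctor.comp (AlgSt.overMap (opn W T.1)) x) f)) :
    AlgSt.RepByAlgSpWith AlgSp.IsQuasiCompactMor f :=
  isQuasiCompactMor_of_refines_affine_opens (refines_of_rep hs hsurj) hf h

end K745.Refine
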