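import Groth.Agent.AlgSt.K745.BCRep
import Groth.Agent.AlgSp.K597.LocP
import Groth.Agent.AlgSp.K609.Points
import Groth.Agent.AlgSp.K613.Chart

/-!
Common refinements of a chart and a smooth surjective atlas, and descent of properties of representable morphisms
to an atlas.
-/

set_option autoImplicit false
set_option backward.isDefEq.respectTransparency false
set_option backward.isDefEq.respectTransparency.types false

universe v₃ u₃ v₂ u₂ v u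

open CategoryTheory CategoryTheory.Limits AlgebraicGeometry Opposite K735.Fib K735.Fp K735.Rep

namespace K745.Refine

open K745.Lift

variable {S : Scheme.{u}}

instance respectsIso_surj : (AlgSp.IsSurjectiveMor (S := S)).RespectsIso := by
  apply MorphismProperty.RespectsIso.mk
  · intro X Y Z e f hf
    change Function.Surjective (AlgSp.Points.map (e.hom ≫ f))
    have h1 : AlgSp.Points.map (e.hom ≫ f) = AlgSp.Points.map f ∘ AlgSp.Points.map e.hom := by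
      funext x; exact AlgSp.Points.map_comp _ _ _
    rw [h1]
    refine Function.Surjective.comp hf ?_
    intro x
    refine ⟨AlgSp.Points.map e.inv x, ?_⟩
    rw [← AlgSp.Points.map_comp, e.inv_hom_id, AlgSp.Points.map_id]
  · intro X Y Z e f hf
    change Function.Surjective (AlgSp.Points.map (f ≫ e.hom))
    have h1 : AlgSp.Points.map (f ≫ e.hom) = AlgSp.Points.map e.hom ∘ AlgSp.Points.map f := by
      funext x; exact AlgSp.Points.map_comp _ _ _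
    rw [h1]
    refine Function.Surjective.comp ?_ hf
    intro x
    refine ⟨AlgSp.Points.map e.inv x, ?_⟩
    rw [← AlgSp.Points.map_comp, e.inv_hom_id, AlgSp.Points.map_id]

variable {𝒳 : BasedCategory.{v₂, u₂} (Over S)} {𝒴 : BasedCategory.{v₃, u₃} (Over S)}

/-- A functor `(Sch/U') ⟶ (Sch/U) ×_𝒳 (Sch/W)` in terms of schemes. -/
theorem exists_iso_overMap {U' U : Over S} (Φ : FibCat.overCat U' ⥤ᵇ FibCat.overCat U) :
    ∃ g : U' ⟶ U, AlgSt.spMapOfOver (BasedFunctor.comp (AlgSt.toOverCat U') Φ) = (AlgSp.yon S).map g ∧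
      Nonempty (Φ ≅ AlgSt.overMap g) := by
  obtain ⟨i⟩ := exists_iso_spMapOfOver (BasedFunctor.comp (AlgSt.toOverCat U') Φ)
  obtain ⟨g, hg⟩ := (AlgSp.yon S).map_surjective (AlgSt.spMapOfOver (BasedFunctor.comp (AlgSt.toOverCat U') Φ))
  refine ⟨g, hg.symm, ?_⟩
  rw [← hg] at i
  exact ⟨(whiskerLeftIso (AlgSt.ofOverCat U') i : Φ ≅ _)⟩

theorem exists_refinement {W : Over S} {x : FibCat.overCat W ⥤ᵇ 𝒳}
    (hs : AlgSt.RepByAlgSpWith (AlgSp.LocP @Smooth) x) (hsurj : AlgSt.RepByAlgSpWith AlgSp.IsSurjectiveMor x)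
    {U : Over S} (y : FibCat.overCat U ⥤ᵇ 𝒳) :
    ∃ (U' : Over S) (g₁ : U' ⟶ U) (g₂ : U' ⟶ W),
      Nonempty (BasedFunctor.comp (AlgSt.overMap g₁) y ≅ BasedFunctor.comp (AlgSt.overMap g₂) x) ∧
      Smooth g₁.left ∧ Surjective g₁.left := by
  obtain ⟨V, ev, hev, hsm⟩ := hs U y
  obtain ⟨-, hsu⟩ := RepOver.of_rep (hsurj U y) ev hev
  obtain ⟨U', p, hp, hps⟩ := V.property.atlas
  let A : FibCat.overCat U' ⥤ᵇ FibCat.fp y x :=
    BasedFunctor.comp (AlgSt.ofOverCat U') (BasedFunctor.comp (AlgSt.ofSpMap p) ev)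
  obtain ⟨g₁, hg₁, ⟨i₁⟩⟩ := exists_iso_overMap (BasedFunctor.comp A (FibCat.fpFst y x))
  obtain ⟨g₂, -, ⟨i₂⟩⟩ := exists_iso_overMap (BasedFunctor.comp A (FibCat.fpSnd y x))
  have hg : (AlgSp.yon S).map g₁ = p ≫ q ev := hg₁.symm
  refine ⟨U', g₁, g₂, ⟨?_⟩, ?_, ?_⟩
  · exact whiskerRightIso i₁.symm y ≪≫ whiskerLeftIso A (FibCat.fpIso y x) ≪≫ whiskerRightIso i₂ x
  · exact hsm p (𝟙 _) g₁ hp (MorphismProperty.id_mem _ _) (by rw [hg, Category.comp_id])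
  · have h1 : Function.Surjective (AlgSp.Points.map ((AlgSp.yon S).map g₁)) := by
      rw [hg]
      have h1 : AlgSp.Points.map (p ≫ q ev) = AlgSp.Points.map (q ev) ∘ AlgSp.Points.map p := by
        funext x; exact AlgSp.Points.map_comp _ _ _
      rw [h1]
      exact Function.Surjective.comp hsu (K609.Points.surjective_map_of_repWith_surjective hps)
    exact ⟨(K609.Points.surjective_map_yon_map_iff g₁).1 h1⟩

/-- `x : (Sch/W) ⟶ 𝒳` is a smooth covering: every chart of `𝒳` lifts to `W` after a smooth surjective base change. -/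
def Refines {W : Over S} (x : FibCat.overCat W ⥤ᵇ 𝒳) : Prop :=
  ∀ {U : Over S} (y : FibCat.overCat U ⥤ᵇ 𝒳), ∃ (U' : Over S) (g₁ : U' ⟶ U) (g₂ : U' ⟶ W),
      Nonempty (BasedFunctor.comp (AlgSt.overMap g₁) y ≅ BasedFunctor.comp (AlgSt.overMap g₂) x) ∧
      Smooth g₁.left ∧ Surjective g₁.left

theorem refines_of_rep {W : Over S} {x : FibCat.overCat W ⥤ᵇ 𝒳}
    (hs : AlgSt.RepByAlgSpWith (AlgSp.LocP @Smooth) x) (hsurj : AlgSt.RepByAlgSpWith AlgSp.IsSurjectiveMor x) :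
    Refines x := fun y => exists_refinement hs hsurj y

/-- A property of maps from algebraic spaces to schemes which is stable under base change and descends along smooth
surjective morphisms of schemes can be tested on a smooth covering. -/
theorem repByAlgSpWith_of_refines {W : Over S} {x : FibCat.overCat W ⥤ᵇ 𝒳} (hx : Refines x)
    {f : 𝒴 ⥤ᵇ 𝒳} (hf : AlgSt.RepByAlgSp1 f) (P : MorphismProperty (AlgSp.Sp S)) [P.RespectsIso]
    (hbc : ∀ {F F' : AlgSp.Sp S} {U U' : Over S} (a : F ⟶ (AlgSp.yon S).obj U) (g : U' ⟶ U) (p₁ : F' ⟶ F)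
      (p₂ : F' ⟶ (AlgSp.yon S).obj U'), AlgSp.IsAlgSpace F → AlgSp.IsAlgSpace F' →
      IsPullback p₁ p₂ a ((AlgSp.yon S).map g) → P a → P p₂)
    (hdesc : ∀ {F F' : AlgSp.Sp S} {U U' : Over S} (a : F ⟶ (AlgSp.yon S).obj U) (g : U' ⟶ U) (p₁ : F' ⟶ F)
      (p₂ : F' ⟶ (AlgSp.yon S).obj U'), AlgSp.IsAlgSpace F → AlgSp.IsAlgSpace F' → Smooth g.left →
      Surjective g.left → IsPullback p₁ p₂ a ((AlgSp.yon S).map g) → P p₂ → P a)
    {F₀ : AlgSp.Sp S} (hF₀ : AlgSp.IsAlgSpace F₀) (e₀ : AlgSt.ofSp F₀ ⥤ᵇ FibCat.fp x f)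
    (he₀ : FibCat.IsEquivOver e₀) (hP : P (q e₀)) : AlgSt.RepByAlgSpWith P f := by
  intro U y
  obtain ⟨F, e, he⟩ := hf U y
  refine ⟨F, e, he, ?_⟩
  obtain ⟨U', g₁, g₂, ⟨i⟩, hg₁, hg₁'⟩ := hx y
  have sq₁ := IsPullback.of_hasPullback (q e) ((AlgSp.yon S).map g₁)
  have sq₂ := IsPullback.of_hasPullback (q e₀) ((AlgSp.yon S).map g₂)
  obtain ⟨k₁, hk₁, hq₁, -⟩ := exists_rep_overMap e he g₁ sq₁
  obtain ⟨k₂, hk₂, hq₂, -⟩ := exists_rep_overMap e₀ he₀ g₂ sq₂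
  have hA₁ : AlgSp.IsAlgSpace (pullback (q e) ((AlgSp.yon S).map g₁)) :=
    K613.Chart.isAlgSpace_pullback F.property (AlgSp.IsAlgSpace.yon_obj _) (AlgSp.IsAlgSpace.yon_obj _) _ _
  have hA₂ : AlgSp.IsAlgSpace (pullback (q e₀) ((AlgSp.yon S).map g₂)) :=
    K613.Chart.isAlgSpace_pullback hF₀ (AlgSp.IsAlgSpace.yon_obj _) (AlgSp.IsAlgSpace.yon_obj _) _ _
  refine hdesc (q e) g₁ _ _ F.property hA₁ hg₁ hg₁' sq₁ ?_
  have h2 : P (q k₂) := by
    rw [hq₂]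
    exact hbc (q e₀) g₂ _ _ hF₀ hA₂ sq₂ hP
  have h3 : RepOver P (FibCat.fpFst (BasedFunctor.comp (AlgSt.overMap g₂) x) f) := ⟨⟨_, hA₂⟩, k₂, hk₂, h2⟩
  have h4 : RepOver P (FibCat.fpFst (BasedFunctor.comp (AlgSt.overMap g₁) y) f) :=
    h3.of_equiv (K734.Fib.fpCongrL i f) (K734.Fib.isEquivOver_fpCongrL i f) (Iso.refl _)
  rw [← hq₁]
  exact (h4.of_rep k₁ hk₁).2

theorem repByAlgSpWith_of_atlas {W : Over S} {x : FibCat.overCat W ⥤ᵇ 𝒳}
    (hs : AlgSt.RepByAlgSpWith (AlgSp.LocP @Smooth) x) (hsurj : AlgSt.RepByAlgSpWith AlgSp.IsSurjectiveMor x)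
    {f : 𝒴 ⥤ᵇ 𝒳} (hf : AlgSt.RepByAlgSp1 f) (P : MorphismProperty (AlgSp.Sp S)) [P.RespectsIso]
    (hbc : ∀ {F F' : AlgSp.Sp S} {U U' : Over S} (a : F ⟶ (AlgSp.yon S).obj U) (g : U' ⟶ U) (p₁ : F' ⟶ F)
      (p₂ : F' ⟶ (AlgSp.yon S).obj U'), AlgSp.IsAlgSpace F → AlgSp.IsAlgSpace F' →
      IsPullback p₁ p₂ a ((AlgSp.yon S).map g) → P a → P p₂)
    (hdesc : ∀ {F F' : AlgSp.Sp S} {U U' : Over S} (a : F ⟶ (AlgSp.yon S).obj U) (g : U' ⟶ U) (p₁ : F' ⟶ F)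
      (p₂ : F' ⟶ (AlgSp.yon S).obj U'), AlgSp.IsAlgSpace F → AlgSp.IsAlgSpace F' → Smooth g.left →
      Surjective g.left → IsPullback p₁ p₂ a ((AlgSp.yon S).map g) → P p₂ → P a)
    {F₀ : AlgSp.Sp S} (hF₀ : AlgSp.IsAlgSpace F₀) (e₀ : AlgSt.ofSp F₀ ⥤ᵇ FibCat.fp x f)
    (he₀ : FibCat.IsEquivOver e₀) (hP : P (q e₀)) : AlgSt.RepByAlgSpWith P f :=
  repByAlgSpWith_of_refines (refines_of_rep hs hsurj) hf P hbc hdesc hF₀ e₀ he₀ hP

end K745.Refine
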