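import Groth.Prelude.Def_AlgSt5
import Groth.Prelude.Def_AlgSt2
import Groth.Prelude.Def_AlgGrp
import Groth.Prelude.Def_AlgSp
import Mathlib.AlgebraicGeometry.Sites.Fpqc

/-!
Functors from a quotient stack `[X/G]` (scheme torsors) to the category of a sheaf of sets `M`:
`existsUnique` = invariant maps `h_X ⟶ M` factor uniquely through `quotMap`.
-/

set_option autoImplicit false
set_option backward.isDefEq.respectTransparency false
set_option backward.isDefEq.respectTransparency.types false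
universe w v u
open CategoryTheory MonoidalCategory CartesianMonoidalCategory MonObj GrpObj AlgebraicGeometry Opposite

namespace K745.QuotDesc

/-- Two based functors into the category of a presheaf of sets agreeing on objects are equal. -/
theorem basedFunctor_ext {C : Type*} [Category C] {P : Cᵒᵖ ⥤ Type w} {𝒳 : BasedCategory C}
    (Φ Ψ : 𝒳 ⥤ᵇ Stk.ofPsh P) (h : ∀ x, Φ.obj x = Ψ.obj x) : Φ = Ψ := by
  have hf : Φ.toFunctor = Ψ.toFunctor := by
    refine CategoryTheory.Functor.ext h (fun x y g => ?_)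
    apply Stk.EltObj.hom_ext
    have h1 := Functor.congr_hom Φ.w g
    have h2 := Functor.congr_hom Ψ.w g
    have e : ∀ {a b : (Stk.ofPsh P).obj} (h : a = b),
        (eqToHom h : a ⟶ b).hom = eqToHom (congrArg Stk.EltObj.base h) := by
      rintro a b rfl; rfl
    simp only [Stk.EltObj.comp_hom, e]
    change (Φ.map g).hom = _ at h1
    change (Ψ.map g).hom = _ at h2
    rw [h1, h2]
    simp
  cases Φ; cases Ψ; cases hf; rfl

theorem exists_sec_of_hom {C : Type*} [Category C] {P : Cᵒᵖ ⥤ Type w} {a b : Stk.EltObj P} {T' T : C}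
    {s : P.obj (op T')} (g : T' ⟶ T) (ha : a = ⟨T', s⟩) (hb : b.base = T) (φ : a ⟶ b)
    (hφ : φ.hom = eqToHom (by rw [ha]) ≫ g ≫ eqToHom hb.symm) :
    ∃ m : P.obj (op T), b = ⟨T, m⟩ ∧ P.map g.op m = s := by
  subst ha
  obtain ⟨T, m⟩ := b
  subst hb
  refine ⟨m, rfl, ?_⟩
  have := φ.map_sec
  rw [hφ] at this
  simpa using this

variable {S : Scheme.{u}} {K : Precoverage Scheme.{u}}

/-- The sieve of maps factoring through a morphism with sections `K`-locally is covering. -/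
theorem mem_J_of_locallyTrivial {T P : Over S} (π : P ⟶ T)
    (h : NonAbH1.IsLocallyTrivialFor K (Over.mk π.left : Over T.left)) :
    Sieve.generate (Presieve.singleton π) ∈ QuotSh.J K S T := by
  obtain ⟨R, hR, hs⟩ := h
  rw [GrothendieckTopology.mem_over_iff]
  refine GrothendieckTopology.superset_covering _ ?_ (Precoverage.generate_mem_toGrothendieck hR)
  rintro Y f ⟨Z, g, r, hr, rfl⟩
  obtain ⟨s, hs⟩ := hs r hr
  change s ≫ π.left = r at hs
  rw [Sieve.overEquiv_iff]
  refine ⟨P, Over.homMk (g ≫ s) (by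
    simp only [Category.assoc]
    dsimp
    rw [← Over.w π, reassoc_of% hs, Category.assoc]), π, ⟨⟩, ?_⟩
  apply Over.OverMorphism.ext
  simp [hs]

section Descent

variable {G : Over S} [GrpObj G] {X : Over S} {aX : AlgGrp.Action G X}

/-- Section over `T` of a map of sheaves from a representable. -/
abbrev sec {F : AlgSp.Sp S} (f : (AlgSp.yon S).obj X ⟶ F) {T : Over S} (x : T ⟶ X) : F.obj.obj (op T) :=
  f.hom.app (op T) ⟨x⟩

theorem map_sec {F : AlgSp.Sp S} (f : (AlgSp.yon S).obj X ⟶ F) {T T' : Over S} (g : T' ⟶ T) (x : T ⟶ X) :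
    F.obj.map g.op (sec f x) = sec f (g ≫ x) :=
  (NatTrans.naturality_apply f.hom g.op (⟨x⟩ : ULift (T ⟶ X))).symm

theorem sec_inv {F : AlgSp.Sp S} (f : (AlgSp.yon S).obj X ⟶ F)
    (hf : (AlgSp.yon S).map aX.act ≫ f = (AlgSp.yon S).map (snd G X) ≫ f) {T : Over S} (z : T ⟶ G ⊗ X) :
    sec f (z ≫ aX.act) = sec f (z ≫ snd G X) := by
  have h := congrArg (fun φ => φ.hom.app (op T) (⟨z⟩ : ULift (T ⟶ G ⊗ X))) hf
  exact h

variable (M : AlgSp.Sp S) (f : (AlgSp.yon S).obj X ⟶ M)
    (hf : (AlgSp.yon S).map aX.act ≫ f = (AlgSp.yon S).map (snd G X) ≫ f)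

include hf in
/-- The section of `M` over the base of a torsor with an equivariant map to `X`. -/
theorem existsUnique_sec (A : AlgSt.QuotObj Scheme.fppfPrecoverage G aX) :
    ∃! m : M.obj.obj (op A.base), M.obj.map A.π.op m = sec f A.φ := by
  have hcov := mem_J_of_locallyTrivial A.π A.loc
  have hM := (isSheaf_iff_isSheaf_of_type _ _).1 M.property _ hcov
  -- independence of the chosen lift
  have key : ∀ {T' : Over S} (k k' : T' ⟶ A.P), k ≫ A.π = k' ≫ A.π → sec f (k ≫ A.φ) = sec f (k' ≫ A.φ) := by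
    intro T' k k' h
    obtain ⟨l, hl, hl'⟩ := A.cart.exists_lift k k' h
    rw [← hl, ← hl', Category.assoc, A.eqv, Category.assoc, ← Category.assoc l, sec_inv f hf,
      Category.assoc, whiskerLeft_snd]
  have uniq : ∀ m m' : M.obj.obj (op A.base), M.obj.map A.π.op m = M.obj.map A.π.op m' → m = m' := by
    intro m m' h
    refine hM.isSeparatedFor.ext (fun Y g hg => ?_)
    obtain ⟨Z, k, r, ⟨⟩, rfl⟩ := hg
    rw [op_comp, M.obj.map_comp]
    simp only [types_comp_apply, h]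
  have hlift : ∀ {Y : Over S} (g : Y ⟶ A.base), (Sieve.generate (Presieve.singleton A.π)).arrows g →
      ∃ k : Y ⟶ A.P, k ≫ A.π = g := by
    rintro Y g ⟨Z, k, r, ⟨⟩, hk⟩
    exact ⟨k, hk⟩
  let x : Presieve.FamilyOfElements M.obj (Sieve.generate (Presieve.singleton A.π)).arrows :=
    fun Y g hg => sec f ((hlift g hg).choose ≫ A.φ)
  have hx : ∀ {Y : Over S} (g : Y ⟶ A.base) (hg) (k : Y ⟶ A.P), k ≫ A.π = g → x g hg = sec f (k ≫ A.φ) := by
    intro Y g hg k hk
    exact key _ _ ((hlift g hg).choose_spec.trans hk.symm)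
  have hcomp : x.Compatible := by
    rw [Presieve.compatible_iff_sieveCompatible]
    rintro Y Z g h hg
    obtain ⟨W, k, r, ⟨⟩, rfl⟩ := hg
    have h1 : (Sieve.generate (Presieve.singleton A.π)).arrows (k ≫ A.π) := ⟨_, k, A.π, ⟨⟩, rfl⟩
    have h2 : (Sieve.generate (Presieve.singleton A.π)).arrows (h ≫ k ≫ A.π) := ⟨_, h ≫ k, A.π, ⟨⟩, by simp⟩
    rw [hx (h ≫ k ≫ A.π) h2 (h ≫ k) (by simp), hx (k ≫ A.π) h1 k rfl, map_sec, Category.assoc]
  obtain ⟨m, hm, -⟩ := hM x hcomp
  have hm1 : M.obj.map A.π.op m = sec f A.φ := by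
    have := hm A.π ⟨_, 𝟙 _, A.π, ⟨⟩, by simp⟩
    rw [this, hx A.π ⟨_, 𝟙 _, A.π, ⟨⟩, by simp⟩ (𝟙 _) (by simp), Category.id_comp]
  exact ⟨m, hm1, fun m' hm' => uniq _ _ (hm'.trans hm1.symm)⟩


/-- The section of `M` over the base of a torsor with an equivariant map to `X`. -/
noncomputable def descSec (A : AlgSt.QuotObj Scheme.fppfPrecoverage G aX) : M.obj.obj (op A.base) :=
  (existsUnique_sec M f hf A).choose

theorem map_descSec (A : AlgSt.QuotObj Scheme.fppfPrecoverage G aX) :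
    M.obj.map A.π.op (descSec M f hf A) = sec f A.φ :=
  (existsUnique_sec M f hf A).choose_spec.1

theorem eq_descSec (A : AlgSt.QuotObj Scheme.fppfPrecoverage G aX) (m : M.obj.obj (op A.base))
    (hm : M.obj.map A.π.op m = sec f A.φ) : m = descSec M f hf A :=
  (existsUnique_sec M f hf A).choose_spec.2 m hm

/-- The functor `[X/G] ⟶ M` determined by an invariant map `h_X ⟶ M`. -/
noncomputable def descFunctor : AlgSt.QuotSt Scheme.fppfPrecoverage G aX ⥤ᵇ AlgSt.ofSp M where
  toFunctor :=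
    { obj := fun A => ⟨A.base, descSec M f hf A⟩
      map := fun {A B} g => ⟨g.base, by
        refine eq_descSec M f hf A _ ?_
        have h : M.obj.map A.π.op (M.obj.map g.base.op (descSec M f hf B)) =
            M.obj.map g.top.op (M.obj.map B.π.op (descSec M f hf B)) := by
          rw [← Functor.map_comp_apply, ← Functor.map_comp_apply, ← op_comp, ← op_comp, g.cart.w]
        rw [h, map_descSec, map_sec, g.wφ]⟩ }
  w := rfl

/-- The functor `[X/G] ⟶ M` restricted to `X` is the given map. -/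
theorem quotMap_comp_descFunctor :
    BasedFunctor.comp (AlgSt.quotMap Scheme.fppfPrecoverage G aX) (descFunctor M f hf) = AlgSt.ofSpMap f := by
  apply basedFunctor_ext
  rintro ⟨T, ⟨x⟩⟩
  have h : descSec M f hf ((AlgSt.quotMap Scheme.fppfPrecoverage G aX).obj ⟨T, ⟨x⟩⟩) = sec f x := by
    refine (eq_descSec M f hf ((AlgSt.quotMap Scheme.fppfPrecoverage G aX).obj ⟨T, ⟨x⟩⟩) (sec f x) ?_).symm
    change M.obj.map (snd G T).op (sec f x) = sec f ((G ◁ x) ≫ aX.act)
    rw [sec_inv f hf, map_sec, whiskerLeft_snd]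
  change (⟨T, descSec M f hf ((AlgSt.quotMap Scheme.fppfPrecoverage G aX).obj ⟨T, ⟨x⟩⟩)⟩ :
    (AlgSt.ofSp M).obj) = ⟨T, sec f x⟩
  rw [h]

/-- The morphism from the trivial torsor over `P` to the torsor `P ⟶ T`, given by the action. -/
noncomputable def actHom (A : AlgSt.QuotObj Scheme.fppfPrecoverage G aX) :
    (AlgSt.quotMap Scheme.fppfPrecoverage G aX).obj ⟨A.P, ⟨A.φ⟩⟩ ⟶ A where
  base := A.π
  top := A.act.act
  eqv := by
    change (AlgSt.leftMul G A.P).act ≫ A.act.act = (G ◁ A.act.act) ≫ A.act.act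
    have h : (AlgSt.leftMul G A.P).act = (α_ G G A.P).inv ≫ (μ[G] ▷ A.P) := by
      have hμ : fst (G ⊗ G) A.P ≫ μ[G] = (fst _ _ ≫ fst G G) * (fst _ _ ≫ snd G G) := by
        rw [Hom.mul_def, ← comp_lift, lift_fst_snd, Category.comp_id]
      apply CartesianMonoidalCategory.hom_ext
      · simp only [AlgSt.leftMul, Category.assoc, lift_fst, whiskerRight_fst, associator_inv_fst_fst, associator_inv_fst_snd, comp_mul, hμ]
      · simp only [AlgSt.leftMul, Category.assoc, lift_snd, whiskerRight_snd, associator_inv_snd]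
    rw [h, Category.assoc, A.act.mul_act, Iso.inv_hom_id_assoc]
  cart := A.cart
  wφ := A.eqv

/-- Uniqueness: a functor `[X/G] ⟶ M` is determined by its restriction to `X`. -/
theorem eq_descFunctor (Φ : AlgSt.QuotSt Scheme.fppfPrecoverage G aX ⥤ᵇ AlgSt.ofSp M)
    (hΦ : BasedFunctor.comp (AlgSt.quotMap Scheme.fppfPrecoverage G aX) Φ = AlgSt.ofSpMap f) :
    Φ = descFunctor M f hf := by
  apply basedFunctor_ext
  intro A
  have hb : (Φ.obj A).base = A.base := Φ.w_obj A
  have h3 : Φ.obj ((AlgSt.quotMap Scheme.fppfPrecoverage G aX).obj ⟨A.P, ⟨A.φ⟩⟩) = ⟨A.P, sec f A.φ⟩ :=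
    congrArg (fun Ψ : AlgSt.ofSch X ⥤ᵇ AlgSt.ofSp M => Ψ.obj ⟨A.P, ⟨A.φ⟩⟩) hΦ
  obtain ⟨m, hm, hm'⟩ := exists_sec_of_hom A.π h3 hb (Φ.map (actHom A)) (Functor.congr_hom Φ.w (actHom A))
  rw [hm, eq_descSec M f hf A m hm']
  rfl

end Descent

end K745.QuotDesc
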