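import Groth.Agent.AlgSt.K734.RepSp2
import Groth.Agent.AlgSt.K734.Rep
import Groth.Agent.AlgSp.K597.EtLoc
import Groth.Agent.AlgSp.K597.LocP
import Groth.Agent.AlgSp.K609.Points
import Groth.Agent.S10505
import Groth.Agent.S10542
import Groth.Agent.S10544

/-!
Smooth/etale surjective atlases compose: an atlas of `(Sch/V) ×_𝒴 𝒳` for an atlas `V` of `𝒴` gives an atlas of `𝒳`.
-/

set_option autoImplicit false
set_option backward.isDefEq.respectTransparency false
set_option backward.isDefEq.respectTransparency.types false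

universe u

open CategoryTheory CategoryTheory.Limits AlgebraicGeometry Opposite AlgSp

namespace K745.AtlasComp

variable {S : Scheme.{u}}

theorem isLocalOnBase_fppf_of_fpqc {P : MorphismProperty (Sp S)} (h : IsLocalOnBase (IsFpqcCover (S := S)) P) :
    IsLocalOnBase (IsFppfCover (S := S)) P := by
  intro ι Y Yi g hY hYi hg X f hX Xi p q hXi sq
  refine h Yi g hY hYi ?_ f hX Xi p q hXi sq
  exact Groth.Agent.S10505.result (⟨Y, hY⟩ : Space S) (fun i => (⟨Yi i, hYi i⟩ : Space S))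
    (fun i => ObjectProperty.homMk (g i)) hg

theorem isLocalOnBase_surj : IsLocalOnBase (IsFppfCover (S := S)) IsSurjectiveMor := by
  intro ι Y Yi g hY hYi hg X f hX Xi p q hXi sq
  constructor
  · intro h i
    exact K609.Points.surjective_map_of_isPullback (sq i).flip h
  · intro h y
    obtain ⟨i, y', rfl⟩ := hg.2 y
    obtain ⟨x, rfl⟩ := h i y'
    refine ⟨Points.map (q i) x, ?_⟩
    rw [← Points.map_comp, (sq i).w, Points.map_comp]

theorem stableBC_surj : K734.Rep.StableBC (IsSurjectiveMor (S := S)) := by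
  intro X₁ Y₁ X₂ Y₂ _ _ _ _ a b a' b' sq h
  exact K609.Points.surjective_map_of_isPullback sq.flip h

theorem stableComp_surj : K734.Rep.StableComp (IsSurjectiveMor (S := S)) := by
  intro X Y Z _ _ _ a b ha hb z
  obtain ⟨y, rfl⟩ := hb z
  obtain ⟨x, rfl⟩ := ha y
  exact ⟨x, Points.map_comp _ _ _⟩

theorem stableBC_smooth : K734.Rep.StableBC (LocP (S := S) @Smooth) := by
  intro X₁ Y₁ X₂ Y₂ h1 h2 _ h4 a b a' b' sq h
  exact K597.locP_bc K597.etLoc_smooth sq h1.hasAtlas h2.hasAtlas h4.hasAtlas h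

theorem stableComp_smooth : K734.Rep.StableComp (LocP (S := S) @Smooth) := by
  intro X Y Z hX hY hZ a b ha hb
  have : MorphismProperty.IsStableUnderComposition @Smooth.{u} := inferInstance
  exact K597.locP_comp K597.etLoc_smooth hX.hasAtlas hY.hasAtlas hZ.hasAtlas ha hb

theorem stableBC_etale : K734.Rep.StableBC (IsEtaleMor (S := S)) := by
  intro X₁ Y₁ X₂ Y₂ h1 h2 _ h4 a b a' b' sq h
  exact K597.isEtaleMor_of_locP_etale K597.etLoc_etale h4
    (K597.locP_bc K597.etLoc_etale sq h1.hasAtlas h2.hasAtlas h4.hasAtlas (K597.locP_etale_of_isEtaleMor h))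

theorem stableComp_etale : K734.Rep.StableComp (IsEtaleMor (S := S)) := by
  intro X Y Z hX hY hZ a b ha hb
  have := K597.etale_comp_stable.{u}
  exact K597.isEtaleMor_of_locP_etale K597.etLoc_etale hZ
    (K597.locP_comp K597.etLoc_etale hX.hasAtlas hY.hasAtlas hZ.hasAtlas (K597.locP_etale_of_isEtaleMor ha)
      (K597.locP_etale_of_isEtaleMor hb))

/-- Composition of atlases. -/
theorem hasAtlas_of_fp (P : MorphismProperty (Sp S)) (hPb : K734.Rep.StableBC P) (hPc : K734.Rep.StableComp P)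
    (hP : IsLocalOnBase (IsFppfCover (S := S)) P) {𝒳 𝒴 𝒵 : AlgSt.Cat S}
    (f : 𝒳 ⥤ᵇ 𝒴) (z : 𝒵 ⥤ᵇ 𝒴) (h𝒲 : FibCat.IsFibGrpd (FibCat.fp z f).p) (hz : AlgSt.RepByAlgSpWith P z) (hz' : AlgSt.RepByAlgSpWith IsSurjectiveMor z)
    (h : AlgSt.HasAtlas P (FibCat.fp z f)) : AlgSt.HasAtlas P 𝒳 := by
  obtain ⟨U, u, hu, hu'⟩ := h
  refine ⟨U, BasedFunctor.comp u (FibCat.fpSnd z f), ?_, ?_⟩
  · exact K734.Rep.repByAlgSpWith_comp (K734.Fib.isFibGrpd_overCat U) h𝒲 hPb hPc hP hu (K734.Rep.repByAlgSpWith_fpSnd P z f hz)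
  · exact K734.Rep.repByAlgSpWith_comp (K734.Fib.isFibGrpd_overCat U) h𝒲 stableBC_surj stableComp_surj isLocalOnBase_surj hu'
      (K734.Rep.repByAlgSpWith_fpSnd _ z f hz')

end K745.AtlasComp
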