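import Groth.Agent.AlgSt.K745.Locus
import Groth.Agent.AlgSt.K745.Refine
import Groth.Agent.AlgSt.K735.Top
import Groth.Agent.AlgSt.K735.Setoid
import Groth.Agent.AlgSt.K737.RepW
import Groth.Agent.AlgSt.K740.Mono
import Groth.Agent.S10262

/-!
Automorphisms in a stack with unramified diagonal: triviality is an open condition, tested on geometric points; and a
closed condition if the diagonal is separated.
-/

set_option autoImplicit false
set_option backward.isDefEq.respectTransparency false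
set_option backward.isDefEq.respectTransparency.types false

universe w v u

open CategoryTheory CategoryTheory.Limits AlgebraicGeometry Opposite

namespace K745.AutTriv

open K739.Isom K745.Locus

variable {S : Scheme.{u}} {𝒴 : AlgSt.Cat S}

/-- The locus for an unramified diagonal. -/
theorem exists_open_locus (h𝒴 : FibCat.IsFibGrpd 𝒴.p) (hU : AlgSt.IsDMOver 𝒴) {T : Over S}
    (y : FibCat.overCat T ⥤ᵇ 𝒴) (c : y.obj (pt (𝟙 T)) ⟶ y.obj (pt (𝟙 T))) (hc : 𝒴.p.IsHomLift (𝟙 T) c) :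
    ∃ (E : Over S) (e : E ⟶ T), IsOpenImmersion e.left ∧ ∀ (R : Over S) (r : R ⟶ T),
      (y.map (arr r (Category.comp_id r)) ≫ c = y.map (arr r (Category.comp_id r)) ↔ ∃ k : R ⟶ E, k ≫ e = r) :=
  exists_locus h𝒴 (Q := @IsOpenImmersion)
    (fun F T π hπ => (Groth.Agent.S10262.result (X := F) (Y := ⟨_, AlgSp.IsAlgSpace.yon_obj T⟩)
      (ObjectProperty.homMk π)).1 hπ) hU y c hc

theorem exists_closed_locus (h𝒴 : FibCat.IsFibGrpd 𝒴.p)
    (hΔ : AlgSt.RepByAlgSpWith AlgSp.IsSeparatedMor (FibCat.diag (FibCat.toSelf 𝒴))) {T : Over S}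
    (y : FibCat.overCat T ⥤ᵇ 𝒴) (c : y.obj (pt (𝟙 T)) ⟶ y.obj (pt (𝟙 T))) (hc : 𝒴.p.IsHomLift (𝟙 T) c) :
    ∃ (E : Over S) (e : E ⟶ T), IsClosedImmersion e.left ∧ ∀ (R : Over S) (r : R ⟶ T),
      (y.map (arr r (Category.comp_id r)) ≫ c = y.map (arr r (Category.comp_id r)) ↔ ∃ k : R ⟶ E, k ≫ e = r) :=
  exists_locus h𝒴 (Q := @IsClosedImmersion) (fun _ _ _ hπ => hπ) hΔ y c hc

/-- If the open locus is everything, the automorphism is trivial. -/
theorem eq_id_of_surjective {T : Over S} {y : FibCat.overCat T ⥤ᵇ 𝒴} {c : y.obj (pt (𝟙 T)) ⟶ y.obj (pt (𝟙 T))}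
    {E : Over S} {e : E ⟶ T} (he : IsOpenImmersion e.left)
    (h : ∀ (R : Over S) (r : R ⟶ T),
      (y.map (arr r (Category.comp_id r)) ≫ c = y.map (arr r (Category.comp_id r)) ↔ ∃ k : R ⟶ E, k ≫ e = r))
    (hs : Function.Surjective e.left) : c = 𝟙 _ := by
  have hs' : Surjective e.left := ⟨hs⟩
  have hi : IsIso e.left := by
    have : Epi e.left.base := (TopCat.epi_iff_surjective _).2 hs
    exact IsOpenImmersion.isIso e.left
  have hi' : IsIso e := by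
    have : IsIso ((Over.forget S).map e) := hi
    exact isIso_of_reflects_iso e (Over.forget S)
  have h1 := (h T (𝟙 T)).2 ⟨inv e, IsIso.inv_hom_id e⟩
  have h2 : (arr (𝟙 T) (Category.comp_id (𝟙 T)) : pt (𝟙 T) ⟶ pt (𝟙 T)) = 𝟙 _ := by
    apply Over.OverMorphism.ext
    rfl
  rw [h2] at h1
  erw [y.map_id] at h1
  rw [Category.id_comp] at h1
  exact h1

theorem conj_eq_id {x y : 𝒴.obj} (e : x ≅ y) {c : y ⟶ y} (h : e.hom ≫ c ≫ e.inv = 𝟙 x) : c = 𝟙 y := by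
  have h1 : e.inv ≫ (e.hom ≫ c ≫ e.inv) ≫ e.hom = c := by simp
  rw [← h1, h]
  simp

/-- An automorphism in a stack with unramified diagonal is trivial if it is trivial on geometric points. -/
theorem eq_id_of_geom (h𝒴 : FibCat.IsFibGrpd 𝒴.p) (hU : AlgSt.IsDMOver 𝒴) (ξ : 𝒴.obj) (c : ξ ⟶ ξ)
    (hc : K734.Fib.IsVert 𝒴 c)
    (h : ∀ (k : Type u) [Field k] [IsAlgClosed k] (s : Spec (CommRingCat.of k) ⟶ S) (η : 𝒴.obj)
      (_ : 𝒴.p.obj η = Over.mk s) (ρ : η ⟶ ξ), ρ ≫ c = ρ) : c = 𝟙 ξ := by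
  obtain ⟨y, ε, hε⟩ := K734.Fib.exists_yo h𝒴 ξ rfl
  let c' : y.obj (pt (𝟙 (𝒴.p.obj ξ))) ⟶ y.obj (pt (𝟙 (𝒴.p.obj ξ))) := ε.hom ≫ c ≫ ε.inv
  have hc' : 𝒴.p.IsHomLift (𝟙 (𝒴.p.obj ξ)) c' := (hε.comp (hc.comp hε.inv)).lift (y.w_obj _)
  obtain ⟨E, e, he, hE⟩ := exists_open_locus h𝒴 hU y c' hc'
  refine conj_eq_id ε (eq_id_of_surjective (c := c') he hE ?_)
  intro t
  let k : Type u := AlgebraicClosure ((𝒴.p.obj ξ).left.residueField t)
  let r : Spec (CommRingCat.of k) ⟶ (𝒴.p.obj ξ).left :=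
    Spec.map (CommRingCat.ofHom (algebraMap ((𝒴.p.obj ξ).left.residueField t) k)) ≫
      (𝒴.p.obj ξ).left.fromSpecResidueField t
  let r' : Over.mk (r ≫ (𝒴.p.obj ξ).hom) ⟶ 𝒴.p.obj ξ := Over.homMk r rfl
  have h1 : y.map (arr r' (Category.comp_id r')) ≫ c' = y.map (arr r' (Category.comp_id r')) := by
    have h2 := h k (r ≫ (𝒴.p.obj ξ).hom) (y.obj (pt r')) (y.w_obj (pt r')) (y.map (arr r' (Category.comp_id r')) ≫ ε.hom)
    change y.map (arr r' (Category.comp_id r')) ≫ ε.hom ≫ c ≫ ε.inv = _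
    rw [← Category.assoc, ← Category.assoc, h2]
    exact (Category.assoc _ _ _).trans
      ((congrArg (fun z => y.map (arr r' (Category.comp_id r')) ≫ z) ε.hom_inv_id).trans (Category.comp_id _))
  obtain ⟨m, hm⟩ := (hE _ r').1 h1
  refine ⟨m.left (IsLocalRing.closedPoint k), ?_⟩
  have h3 : (m ≫ e).left (IsLocalRing.closedPoint k) = r (IsLocalRing.closedPoint k) := by rw [hm]; rfl
  have h4 : (m ≫ e).left (IsLocalRing.closedPoint k) = e.left (m.left (IsLocalRing.closedPoint k)) := rfl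
  rw [← h4, h3]
  change (𝒴.p.obj ξ).left.fromSpecResidueField t _ = t
  rw [Scheme.fromSpecResidueField_apply]

/-- A functor of categories fibred in groupoids which is injective on vertical automorphisms is faithful. -/
theorem faithful_of_vert {𝒢 ℱ : AlgSt.Cat S} (h𝒢 : FibCat.IsFibGrpd 𝒢.p) (hℱ : FibCat.IsFibGrpd ℱ.p) (g : 𝒢 ⥤ᵇ ℱ)
    (h : ∀ (ξ : 𝒢.obj) (a : ξ ⟶ ξ), K734.Fib.IsVert 𝒢 a → g.map a = 𝟙 _ → a = 𝟙 ξ) : g.toFunctor.Faithful := by
  refine ⟨fun {a b} φ ψ hφψ => ?_⟩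
  have hφψ' : g.map φ = g.map ψ := hφψ
  have h1 : 𝒢.p.map φ = 𝒢.p.map ψ := by
    rw [K734.Fib.map_base_eq g φ, K734.Fib.map_base_eq g ψ, hφψ']
  obtain ⟨χ, hχ, hχ'⟩ := K734.Fib.exists_fac h𝒢 ψ φ (𝟙 _) (by rw [Category.id_comp, h1])
  have hv : K734.Fib.IsVert 𝒢 χ := K734.Fib.IsVert.of_lift (R := 𝒢.p.obj a)
    ((K734.Fib.isHomLift_iff_map_eq _ _).2 hχ)
  have h2 : g.map χ = 𝟙 _ := by
    refine K734.Fib.fac_unique hℱ (g.map ψ) ?_ ?_
    · rw [(hv.map g).map_eq, ℱ.p.map_id]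
      rfl
    · rw [← g.map_comp, hχ', Category.id_comp, hφψ']
  rw [← hχ', h a χ hv h2, Category.id_comp]

/-- Naturality: a 2-endomorphism is trivial at `x` if it is at the target of a map from `x`. -/
theorem app_eq_id_of_hom {𝒳 : AlgSt.Cat S} (h𝒴 : FibCat.IsFibGrpd 𝒴.p) {F : 𝒳 ⥤ᵇ 𝒴} (α : F ⟶ F) {x x' : 𝒳.obj} (φ : x ⟶ x')
    (h : α.toNatTrans.app x' = 𝟙 _) : α.toNatTrans.app x = 𝟙 _ := by
  refine K734.Fib.fac_unique h𝒴 (F.map φ) ?_ ?_
  · rw [(K734.Fib.hom_vert α x).map_eq, 𝒴.p.map_id]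
    rfl
  · have h1 := α.toNatTrans.naturality φ
    have h2 : F.map φ ≫ α.toNatTrans.app x' = α.toNatTrans.app x ≫ F.map φ := h1
    rw [h] at h2
    exact h2.symm.trans ((Category.comp_id _).trans (Category.id_comp _).symm)

end K745.AutTriv
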