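import Groth.Agent.AlgSt.K745.Lift
import Groth.Agent.AlgSt.K734.IsoPsh

/-!
Base change of a representing sheaf: if `F` represents `(Sch/U) ×_𝒳 𝒴` then `F ×_{h_U} h_{U'}` represents
`(Sch/U') ×_𝒳 𝒴`, for `U' ⟶ U`.
-/

set_option autoImplicit false
set_option backward.isDefEq.respectTransparency false
set_option backward.isDefEq.respectTransparency.types false

universe v₃ u₃ v₂ u₂ v u

open CategoryTheory CategoryTheory.Limits AlgebraicGeometry Opposite K735.Fib K735.Fp K735.Rep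

namespace K745.Lift

variable {S : Scheme.{u}}
  {𝒳 : BasedCategory.{v₂, u₂} (Over S)} {𝒴 : BasedCategory.{v₃, u₃} (Over S)} {f : 𝒴 ⥤ᵇ 𝒳} {U : Over S}
  {y : FibCat.overCat U ⥤ᵇ 𝒳} {F : AlgSp.Sp S} (e : AlgSt.ofSp F ⥤ᵇ FibCat.fp y f)

theorem exists_rep_overMap (he : FibCat.IsEquivOver e) {U' : Over S} (g : U' ⟶ U) {P : AlgSp.Sp S}
    {p₁ : P ⟶ F} {p₂ : P ⟶ (AlgSp.yon S).obj U'} (sq : IsPullback p₁ p₂ (q e) ((AlgSp.yon S).map g)) :
    ∃ k : AlgSt.ofSp P ⥤ᵇ FibCat.fp (BasedFunctor.comp (AlgSt.overMap g) y) f, FibCat.IsEquivOver k ∧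
      q k = p₂ ∧ Nonempty (BasedFunctor.comp k (FibCat.fpSnd _ _) ≅
        BasedFunctor.comp (AlgSt.ofSpMap p₁) (BasedFunctor.comp e (FibCat.fpSnd y f))) := by
  obtain ⟨PI, hPI, ⟨i₁⟩, ⟨i₂⟩⟩ := IsEquivOver.exists_inv (K734.Fib.isEquivOver_fpPaste (AlgSt.overMap g) y f)
  obtain ⟨β⟩ := exists_iso_spMapOfOver (BasedFunctor.comp e (FibCat.fpFst y f))
  let M : FibCat.fp (AlgSt.ofSpMap ((AlgSp.yon S).map g)) (AlgSt.ofSpMap (q e)) ⥤ᵇ
      FibCat.fp (AlgSt.overMap g) (FibCat.fpFst y f) :=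
    K734.Fib.fpMap (AlgSt.toOverCat U') e (AlgSt.toOverCat U) (Iso.refl _) β
  have hM : FibCat.IsEquivOver M :=
    K734.Fib.isEquivOver_fpMap _ _ _ _ _ (isEquivOver_toOverCat U') he
      (K734.Fib.full_of (isEquivOver_toOverCat U)) (K734.Fib.faithful_of (isEquivOver_toOverCat U))
  have sq' : IsPullback p₂.hom p₁.hom ((AlgSp.yon S).map g).hom (q e).hom :=
    (sq.flip).map (sheafToPresheaf (AlgSp.J S) (Type (u + 1)))
  let ε : BasedFunctor.comp (Stk.ofPshMap p₂.hom) (Stk.ofPshMap ((AlgSp.yon S).map g).hom) ≅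
      BasedFunctor.comp (Stk.ofPshMap p₁.hom) (Stk.ofPshMap (q e).hom) :=
    eqToIso (show Stk.ofPshMap (p₂.hom ≫ ((AlgSp.yon S).map g).hom) = Stk.ofPshMap (p₁.hom ≫ (q e).hom) by
      rw [sq'.w])
  let C : AlgSt.ofSp P ⥤ᵇ FibCat.fp (AlgSt.ofSpMap ((AlgSp.yon S).map g)) (AlgSt.ofSpMap (q e)) :=
    FibCat.fpLift (Stk.ofPshMap p₂.hom) (Stk.ofPshMap p₁.hom) ε
  have hC : FibCat.IsEquivOver C := K734.Fib.isEquivOver_fp_ofPsh sq' ε
  refine ⟨BasedFunctor.comp (BasedFunctor.comp C M) PI, IsEquivOver.comp (IsEquivOver.comp hC hM) hPI, ?_, ?_⟩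
  · rw [← spMapOfOver_ofSpMap_toOverCat p₂]
    refine spMapOfOver_eq_of_iso ?_
    exact (whiskerLeftIso (BasedFunctor.comp C M) (whiskerRightIso i₂ (FibCat.fpFst _ _)) :)
  · exact ⟨whiskerLeftIso (BasedFunctor.comp C M) (whiskerRightIso i₂ (BasedFunctor.comp (FibCat.fpSnd _ _) (FibCat.fpSnd _ _)))⟩

end K745.Lift
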