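import Groth.Agent.AlgSt.K734.Boot
import Groth.Agent.AlgSt.K734.Props
import Groth.Agent.AlgSt.K734.Rep
import Groth.Agent.AlgSt.K735.Rep
import Groth.Agent.Stk.K751.Fp
import Groth.Agent.Stk.K751.OfPsh

/-!
# Representability by algebraic spaces descends along flat covers (helper745)

`K745.FlatRep.repByAlgSp1_of_cover`: `z : 𝒵 ⟶ 𝒴` representable, flat, lfp, surjective, the base change of `f` representable
=> `f` representable by algebraic spaces, for stacks, when the fibre products of `f` with schemes are fibred in setoids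
(`hb` is S10104).
-/

set_option autoImplicit false
set_option backward.isDefEq.respectTransparency false
set_option backward.isDefEq.respectTransparency.types false

universe w v u

open CategoryTheory CategoryTheory.Limits AlgebraicGeometry Opposite K734.Fib

namespace K745.FlatRep

variable {S : Scheme.{u}} {𝒳 𝒴 𝒵 : AlgSt.Cat S}

theorem isStack_overCat (U : Over S) : Stk.IsStack (QuotSh.J Scheme.fppfPrecoverage S) (FibCat.overCat U) :=
  (K751.OfPsh.isStack_overCat_iff U _).2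
    (GrothendieckTopology.Subcanonical.isSheaf_of_isRepresentable (J := QuotSh.J Scheme.fppfPrecoverage S) _)

theorem isPrestack_of_isStack (h : Stk.IsStack (QuotSh.J Scheme.fppfPrecoverage S) 𝒴) :
    Stk.IsPrestack (QuotSh.J Scheme.fppfPrecoverage S) 𝒴 :=
  K747.Sc.isPrestack_of_isStack h

/-- `A ×_T (T ×_𝒴 𝒳) ≃ A ×_𝒵 (𝒵 ×_𝒴 𝒳)` for `A = T ×_𝒴 𝒵` -/
theorem repByAlgSp_double (f : 𝒳 ⥤ᵇ 𝒴) (z : 𝒵 ⥤ᵇ 𝒴) {T : Over S} (y : FibCat.overCat T ⥤ᵇ 𝒴)
    (h : AlgSt.RepByAlgSp (FibCat.fp (FibCat.fpSnd y z) (FibCat.fpFst z f))) :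
    AlgSt.RepByAlgSp (FibCat.fp (FibCat.fpFst y z) (FibCat.fpFst y f)) := by
  have h1 := (K735.Rep.repByAlgSp_iff_of_equiv (fpPaste (FibCat.fpSnd y z) z f)
    (isEquivOver_fpPaste (FibCat.fpSnd y z) z f)).2 h
  have h2 : AlgSt.RepByAlgSp (FibCat.fp (BasedFunctor.comp (FibCat.fpFst y z) y) f) := by
    refine (K735.Rep.repByAlgSp_iff_of_equiv (fpMap (F' := BasedFunctor.comp (FibCat.fpFst y z) y) (G' := f)
      (F := BasedFunctor.comp (FibCat.fpSnd y z) z) (G := f) (BasedFunctor.id _) (BasedFunctor.id _)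
      (BasedFunctor.id _) (FibCat.fpIso y z).symm (Iso.refl _))
      (isEquivOver_fpMap _ _ _ _ _ (isEquivOver_refl _) (isEquivOver_refl _) (full_of (isEquivOver_refl _))
        (faithful_of (isEquivOver_refl _)))).2 h1
  exact (K735.Rep.repByAlgSp_iff_of_equiv (fpPaste (FibCat.fpFst y z) y f)
    (isEquivOver_fpPaste (FibCat.fpFst y z) y f)).1 h2

theorem repByAlgSp1_of_cover (hb : K734.Rep.Boot S)
    (h𝒳 : Stk.IsStack (QuotSh.J Scheme.fppfPrecoverage S) 𝒳) (h𝒴 : Stk.IsStack (QuotSh.J Scheme.fppfPrecoverage S) 𝒴)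
    (h𝒵 : FibCat.IsFibGrpd 𝒵.p) (f : 𝒳 ⥤ᵇ 𝒴) (z : 𝒵 ⥤ᵇ 𝒴)
    (hz1 : AlgSt.RepByAlgSpWith AlgSp.IsSurjectiveMor z) (hz2 : AlgSt.RepByAlgSpWith (AlgSp.LocP @Flat) z)
    (hz3 : AlgSt.RepByAlgSpWith (AlgSp.LocP @LocallyOfFinitePresentation) z)
    (hfz : AlgSt.RepByAlgSp1 (FibCat.fpFst z f))
    (hset : ∀ (U : Over S) (y : FibCat.overCat U ⥤ᵇ 𝒴), FibCat.IsFibSetoid (FibCat.fp y f).p) :
    AlgSt.RepByAlgSp1 f := by
  intro T y
  have hu : ∀ P : MorphismProperty (AlgSp.Sp S), AlgSt.RepByAlgSpWith P z →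
      AlgSt.RepByAlgSpWith P (FibCat.fpSnd (FibCat.fpFst y z) (FibCat.fpFst y f)) := fun P hP =>
    K734.Rep.repByAlgSpWith_fpSnd P (FibCat.fpFst y z) (FibCat.fpFst y f) (K734.Rep.repByAlgSpWith_fpFst P z y hP)
  have hst : Stk.IsStack (QuotSh.J Scheme.fppfPrecoverage S) (FibCat.fp y f) :=
    K751.Fp.isStack_fp (isStack_overCat T) h𝒳 (isPrestack_of_isStack h𝒴)
  have hA : AlgSt.RepByAlgSp (FibCat.fp y z) := by
    obtain ⟨F, e, he, -⟩ := hz1 T y
    exact ⟨F, e, he⟩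
  have hzf : FibCat.IsFibGrpd (FibCat.fp z f).p := K751.Fp.isFibGrpd_fp h𝒵 h𝒳.1 h𝒴.1
  have hU : AlgSt.RepByAlgSp (FibCat.fp (FibCat.fpFst y z) (FibCat.fpFst y f)) :=
    repByAlgSp_double f z y (K734.Rep.repByAlgSp_fp hzf h𝒵 (FibCat.fpSnd y z) hfz hA)
  exact K734.Rep.repByAlgSp_of_cover hb hst (hset T y) hU _ (hu _ hz1) (hu _ hz2) (hu _ hz3)

end K745.FlatRep
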