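import Groth.Agent.AlgSt.K745.TorsObj
import Groth.Agent.AlgSt.K745.FlatRep
import Groth.Agent.AlgSt.K744.TorsProp
import Groth.Agent.AlgSt.K744.AlgOver
import Groth.Agent.AlgSt.K744.QuotFib
import Groth.Agent.AlgSt.K750.QuotEff
import Groth.Agent.AlgSt.K736.Cover
import Groth.Agent.AlgSt.K734.Yon2
import Groth.Agent.AlgSt.K740.DiagRep
import Groth.Agent.AlgSt.K742.Nice
import Groth.Agent.AlgSt.K738.LftDiag
import Groth.Agent.S13572

/-!
# Smoothness of `BZ` for a subgroup `Z` of a smooth group with smooth quotient (helper745)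
-/

set_option autoImplicit false
set_option backward.isDefEq.respectTransparency false
set_option backward.isDefEq.respectTransparency.types false

universe w v u

open CategoryTheory CategoryTheory.Limits MonoidalCategory CartesianMonoidalCategory MonObj GrpObj AlgebraicGeometry
open AlgSt Opposite

namespace K745.ClassSm

variable {S : Scheme.{u}} {Z : Over S} [GrpObj Z]

/-- the classifying stack -/
noncomputable abbrev BZ (Z : Over S) [GrpObj Z] : AlgSt.Cat S := AlgSt.BG Scheme.fppfPrecoverage Z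

theorem isFibGrpd_BZ : FibCat.IsFibGrpd (BZ Z).p := K744.QuotFib.isFibGrpd

/-- the trivial torsor `S ⟶ BZ` -/
noncomputable abbrev pt0 (Z : Over S) [GrpObj Z] : FibCat.overCat (𝟙_ (Over S)) ⥤ᵇ BZ Z :=
  K744.QuotFp.chart Scheme.fppfPrecoverage Z (trivAction Z)

section

variable {Q : Over S} (x : FibCat.overCat Q ⥤ᵇ BZ Z)

/-- the base change of `x` along the trivial torsor is the total space of the torsor -/
theorem repByAlgSpWith_base (P : MorphismProperty (AlgSp.Sp S))
    (hP : RepByAlgSpWith P (K744.IsomFp.ovMap (K744.QuotFp.tors x).φ)) :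
    RepByAlgSpWith P (FibCat.fpFst (pt0 Z) x) := by
  obtain ⟨e, he, -, h2⟩ := K744.QuotFp.exists_isEquivOver_overCat x
  refine (K735.Rep.repByAlgSpWith_iff_of_sq P (FibCat.fpFst (pt0 Z) x) (K744.IsomFp.ovMap (K744.QuotFp.tors x).φ)
    (BasedFunctor.comp e (K734.Fib.fpSwap x (pt0 Z))) (BasedFunctor.id _)
    (K734.Fib.isEquivOver_comp he (K734.Fib.isEquivOver_fpSwap x (pt0 Z))) (K734.Fib.isEquivOver_refl _) ?_).2 hP
  exact eqToIso h2.symm

/-- a nice property of the total space over the base passes to `fpFst (pt0 Z) x` -/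
theorem repByAlgSpWith_base_of {P : MorphismProperty (AlgSp.Sp S)} (hP : K734.Rep.Nice P)
    (h : P ((AlgSp.yon S).map (K744.QuotFp.tors x).φ)) : RepByAlgSpWith P (FibCat.fpFst (pt0 Z) x) := by
  refine repByAlgSpWith_base x P ?_
  refine (K735.Rep.repByAlgSpWith_iff_of_sq _ (K744.IsomFp.ovMap (K744.QuotFp.tors x).φ)
    (AlgSt.ofSpMap ((AlgSp.yon S).map (K744.QuotFp.tors x).φ)) (AlgSt.toOverCat _)
      (AlgSt.toOverCat _) (K735.Rep.isEquivOver_toOverCat _) (K735.Rep.isEquivOver_toOverCat _) (Iso.refl _)).2 ?_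
  exact hP.repByAlgSpWith_ofSpMap (AlgSp.IsAlgSpace.yon_obj _) (AlgSp.IsAlgSpace.yon_obj _) h

variable [IsAffineHom Z.hom] [Flat Z.hom] [LocallyOfFinitePresentation Z.hom]

omit [Flat Z.hom] [LocallyOfFinitePresentation Z.hom] in
theorem isStack_BZ : Stk.IsStack (QuotSh.J Scheme.fppfPrecoverage S) (BZ Z) :=
  K750.QuotEff.isStack_quotSt Scheme.fppfPrecoverage_le_fpqcPrecoverage _

theorem repByAlgSp1 (hb : K734.Rep.Boot S) : RepByAlgSp1 x := by
  have h0 := Groth.Agent.S13572.result Z (𝟙_ (Over S)) (trivAction Z)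
  refine K745.FlatRep.repByAlgSp1_of_cover hb (K745.FlatRep.isStack_overCat Q) isStack_BZ
    (K735.Fp.isFibGrpd_overCat _) x (pt0 Z) h0.2.2 h0.1 h0.2.1 ?_ (fun U y => ?_)
  · rw [K735.Rep.repByAlgSp1_iff_top]
    exact repByAlgSpWith_base_of x K734.Rep.nice_top trivial
  · exact K751.Fp.isFibSetoid_fp (K734.Fib.isFibSetoid_overCat U) (K734.Fib.isFibSetoid_overCat Q) isFibGrpd_BZ

theorem repByAlgSpWith_of {P : MorphismProperty (AlgSp.Sp S)} (hb : K734.Rep.Boot S) (hP : K734.Rep.Nice P)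
    (h : P ((AlgSp.yon S).map (K744.QuotFp.tors x).φ)) : RepByAlgSpWith P x := by
  have h0 := Groth.Agent.S13572.result Z (𝟙_ (Over S)) (trivAction Z)
  exact K734.Rep.repByAlgSpWith_of_fpFst hP.bc hP.loc (repByAlgSp1 x hb) (pt0 Z)
    (K736.Cover.locEssSurj_sieve h0.1 h0.2.1 h0.2.2) (repByAlgSpWith_base_of x hP h)

end

theorem left_toUnit (X : Over S) : (toUnit X).left = X.hom :=
  (Category.comp_id _).symm.trans (Over.w (toUnit X))

/-- the total spaces of isomorphic torsors are isomorphic -/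
theorem exists_iso_P {A B : QuotObj Scheme.fppfPrecoverage Z (trivAction Z)} (e : A ≅ B) : Nonempty (A.P ≅ B.P) := by
  refine ⟨⟨e.hom.top, e.inv.top, ?_, ?_⟩⟩
  · have := congrArg QuotObj.Hom.top e.hom_inv_id
    exact this
  · have := congrArg QuotObj.Hom.top e.inv_hom_id
    exact this

/-- **`BZ` is smooth**: `Z` affine flat lfp, acting on a smooth surjective `P` freely with smooth quotient. -/
theorem locQ_BZ [IsAffineHom Z.hom] [Flat Z.hom] [LocallyOfFinitePresentation Z.hom] (hb : K734.Rep.Boot S)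
    (A : QuotObj Scheme.fppfPrecoverage Z (trivAction Z)) (hP : Smooth A.P.hom) (hP' : Surjective A.P.hom)
    (hQ : Smooth A.base.hom) :
    LocQ (AlgSp.LocP @Smooth) (FibCat.toSelf (BZ Z)) := by
  obtain ⟨x, e, he⟩ := K734.Fib.exists_yo isFibGrpd_BZ A (rfl : (BZ Z).p.obj A = A.base)
  obtain ⟨i⟩ := exists_iso_P (A := K744.QuotFp.tors x) e
  have hφ : (K744.QuotFp.tors x).φ = toUnit _ := toUnit_unique _ _
  have hl : (K744.QuotFp.tors x).φ.left = i.hom.left ≫ A.P.hom := by
    rw [hφ, left_toUnit, Over.w i.hom]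
  have hi : IsIso i.hom.left := (inferInstance : IsIso ((Over.forget S).map i.hom))
  have h1 : AlgSp.LocP @Smooth ((AlgSp.yon S).map (K744.QuotFp.tors x).φ) := by
    refine K744.TorsProp.locP_yon _ K597.etLoc_smooth _ ?_
    rw [hl]
    infer_instance
  have h2 : AlgSp.IsSurjectiveMor ((AlgSp.yon S).map (K744.QuotFp.tors x).φ) := by
    refine K744.TorsProp.surj_yon _ ?_
    rw [hl]
    infer_instance
  have hT : FibCat.IsEquivOver (FibCat.toSelf (FibCat.overCat (Over.mk (𝟙 S)))) :=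
    K740.DiagRep.isEquivOver_toSelf_overCat Over.mkIdTerminal
  refine ⟨A.base, Over.mk (𝟙 S), x, FibCat.toSelf (FibCat.overCat (Over.mk (𝟙 S))), Over.homMk A.base.hom, ?_,
    repByAlgSpWith_of x hb K734.Rep.nice_smooth h1, repByAlgSpWith_of x hb K734.Rep.nice_surj h2,
    K744.AlgOver.repByAlgSpWith_of_isEquivOver _ hT _ (fun U => ?_), ?_⟩
  · exact eqToIso ((K738.Lft.comp_toSelf x).trans (K738.Lft.comp_toSelf _).symm)
  · have := K744.TorsProp.locP_yon @Smooth K597.etLoc_smooth (𝟙 U) (by rw [Over.id_left]; infer_instance)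
    rw [(AlgSp.yon S).map_id] at this
    exact this
  · exact K744.TorsProp.locP_yon _ K597.etLoc_smooth _ hQ

end K745.ClassSm
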