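import Groth.Agent.AlgSt.K735.Rep
import Groth.Agent.AlgSp.K597.EtLoc
import Groth.Agent.AlgSp.K597.LocP
import Groth.Prelude.Def_AlgSt3

/-!
A Deligne-Mumford stack receives an unramified, flat, locally finitely presented surjection from an algebraic space (the
input of S12969).
-/

set_option autoImplicit false
set_option backward.isDefEq.respectTransparency false
set_option backward.isDefEq.respectTransparency.types false

universe w v u

open CategoryTheory CategoryTheory.Limits AlgebraicGeometry Opposite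

namespace K745.DMOver

variable {S : Scheme.{u}} {𝒳 : AlgSt.Cat S}

theorem exists_unramified_cover (h : AlgSt.HasAtlas AlgSp.IsEtaleMor 𝒳) :
    ∃ (W : AlgSp.Space S) (w : AlgSt.ofSp W.obj ⥤ᵇ 𝒳), AlgSt.RepByAlgSpWith (AlgSp.LocP @Flat) w ∧
      AlgSt.RepByAlgSpWith (AlgSp.LocP @LocallyOfFinitePresentation) w ∧
      AlgSt.RepByAlgSpWith AlgSp.IsSurjectiveMor w ∧
      AlgSt.RepByAlgSpWith (AlgSp.LocP (@LocallyOfFiniteType ⊓ @FormallyUnramified)) w := by
  obtain ⟨U, v, hv, hv'⟩ := h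
  have key : ∀ {P : MorphismProperty (AlgSp.Sp S)}, AlgSt.RepByAlgSpWith P v →
      AlgSt.RepByAlgSpWith P (BasedFunctor.comp (AlgSt.toOverCat U) v) := fun {P} h =>
    K735.Rep.repByAlgSpWith_of_sq P v _ (AlgSt.toOverCat U) (BasedFunctor.id _) (K735.Rep.isEquivOver_toOverCat U)
      K735.Fib.isEquivOver_id (Iso.refl _) h
  have key2 : ∀ {P : MorphismProperty Scheme.{u}}, (∀ ⦃X Y : Scheme.{u}⦄ (f : X ⟶ Y), Etale f → P f) →
      AlgSt.RepByAlgSpWith (AlgSp.LocP P) v := fun {P} hP =>
    K735.Rep.AlgSt_RepByAlgSpWith_mono (fun _ _ f hf => K597.locP_mono (fun _ _ g hg => hP g hg)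
      (K597.locP_etale_of_isEtaleMor hf)) hv
  exact ⟨⟨_, AlgSp.IsAlgSpace.yon_obj U⟩, BasedFunctor.comp (AlgSt.toOverCat U) v,
    key (key2 fun _ _ f hf => by infer_instance), key (key2 fun _ _ f hf => by infer_instance), key hv',
    key (key2 fun _ _ f hf => ⟨inferInstance, inferInstance⟩)⟩

end K745.DMOver
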