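import Groth.Agent.AlgSp.K597.Chart
import Groth.Agent.AlgSp.K598.RepKit
import Groth.Prelude.Def_AlgSp4

/-!
Properties of morphisms of sheaves that respect isomorphisms.
-/

set_option autoImplicit false
set_option backward.isDefEq.respectTransparency false
set_option backward.isDefEq.respectTransparency.types false

universe u

open CategoryTheory CategoryTheory.Limits AlgebraicGeometry Opposite AlgSp

namespace K745.Inst

variable {S : Scheme.{u}}

theorem respectsIso_locP (P : MorphismProperty Scheme.{u}) : (LocP (S := S) P).RespectsIso := by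
  apply MorphismProperty.RespectsIso.mk
  · intro X Y Z e f hf U V a b h ha hb hab
    refine hf (a ≫ e.hom) b h ?_ hb (by rw [Category.assoc, hab])
    exact K597.etale_comp ha (K598.RepKit.repWith_of_isIso _)
  · intro X Y Z e f hf U V a b h ha hb hab
    refine hf a (b ≫ e.inv) h ha (K597.etale_comp hb (K598.RepKit.repWith_of_isIso _)) ?_
    rw [← Category.assoc, ← hab]
    simp

theorem respectsIso_isQuasiCompactMor : (IsQuasiCompactMor (S := S)).RespectsIso := by
  apply MorphismProperty.RespectsIso.mk
  · intro X Y Z e f hf T Q hT hTc g a b sq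
    refine hf hT hTc g (a ≫ e.hom) b ?_
    exact sq.of_iso (Iso.refl _) e (Iso.refl _) (Iso.refl _) (by simp) (by simp) (by simp) (by simp)
  · intro X Y Z e f hf T Q hT hTc g a b sq
    refine hf hT hTc (g ≫ e.inv) a b ?_
    exact sq.of_iso (Iso.refl _) (Iso.refl _) (Iso.refl _) e.symm (by simp) (by simp) (by simp) (by simp)

end K745.Inst
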