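import Groth.Agent.AlgSt.K745.Affine
import Groth.Agent.AlgSt.K745.Inst
import Groth.Agent.AlgSt.K735.Prod

/-!
The product of an atlas with itself is a smooth covering of `𝒳 ×_{(Sch/S)} 𝒳`.
-/

set_option autoImplicit false
set_option backward.isDefEq.respectTransparency false
set_option backward.isDefEq.respectTransparency.types false

universe v₃ u₃ v₂ u₂ v u

open CategoryTheory CategoryTheory.Limits AlgebraicGeometry Opposite K735.Fib K735.Fp K735.Rep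

namespace K745.DiagAtlas

open K745.Lift K745.Refine

variable {S : Scheme.{u}} {𝒳 : BasedCategory.{v₂, u₂} (Over S)} {𝒴 : BasedCategory.{v₃, u₃} (Over S)}

/-- The functor `(Sch/W ×_S W) ⟶ 𝒳 × 𝒳` of an atlas. -/
noncomputable def sq {W W' W₂ : Over S} (p₁ : W₂ ⟶ W) (p₂ : W₂ ⟶ W') (x : FibCat.overCat W ⥤ᵇ 𝒳)
    (x' : FibCat.overCat W' ⥤ᵇ 𝒴) :
    FibCat.overCat W₂ ⥤ᵇ FibCat.fp (FibCat.toSelf 𝒳) (FibCat.toSelf 𝒴) :=
  FibCat.fpLift (BasedFunctor.comp (AlgSt.overMap p₁) x) (BasedFunctor.comp (AlgSt.overMap p₂) x')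
    (K735.Prod.selfIso _ _)

theorem refines_sq {W W' W₂ : Over S} (p₁ : W₂ ⟶ W) (p₂ : W₂ ⟶ W')
    (hp : ∀ {U : Over S} (a : U ⟶ W) (b : U ⟶ W'), ∃ c : U ⟶ W₂, c ≫ p₁ = a ∧ c ≫ p₂ = b)
    {x : FibCat.overCat W ⥤ᵇ 𝒳} {x' : FibCat.overCat W' ⥤ᵇ 𝒴} (hx : Refines x) (hx' : Refines x') :
    Refines (sq p₁ p₂ x x') := by
  intro U y
  obtain ⟨U₁, g₁, g₂, ⟨i⟩, hg, hg'⟩ := hx (BasedFunctor.comp y (FibCat.fpFst _ _))
  obtain ⟨U₂, h₁, h₂, ⟨j⟩, hh, hh'⟩ := hx' (BasedFunctor.comp (AlgSt.overMap g₁) (BasedFunctor.comp y (FibCat.fpSnd _ _)))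
  obtain ⟨c, hc1, hc2⟩ := hp (h₁ ≫ g₂) h₂
  obtain ⟨m₁⟩ := exists_overMapComp h₁ g₁
  obtain ⟨m₂⟩ := exists_overMapComp h₁ g₂
  obtain ⟨m₃⟩ := exists_overMapComp c p₁
  obtain ⟨m₄⟩ := exists_overMapComp c p₂
  rw [hc1] at m₃
  rw [hc2] at m₄
  refine ⟨U₂, h₁ ≫ g₁, c, ⟨?_⟩, ?_, ?_⟩
  · refine K735.Prod.prodExt ?_ ?_
    · exact (whiskerRightIso m₁.symm (BasedFunctor.comp y (FibCat.fpFst _ _)) :
          BasedFunctor.comp (BasedFunctor.comp (AlgSt.overMap (h₁ ≫ g₁)) y) (FibCat.fpFst _ _) ≅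
          BasedFunctor.comp (AlgSt.overMap h₁) (BasedFunctor.comp (AlgSt.overMap g₁)
            (BasedFunctor.comp y (FibCat.fpFst _ _)))) ≪≫ whiskerLeftIso (AlgSt.overMap h₁) i ≪≫
          (whiskerRightIso m₂ x : BasedFunctor.comp (AlgSt.overMap h₁) (BasedFunctor.comp (AlgSt.overMap g₂) x) ≅
            BasedFunctor.comp (AlgSt.overMap (h₁ ≫ g₂)) x) ≪≫
          (whiskerRightIso m₃.symm x : BasedFunctor.comp (AlgSt.overMap (h₁ ≫ g₂)) x ≅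
            BasedFunctor.comp (AlgSt.overMap c) (BasedFunctor.comp (AlgSt.overMap p₁) x))
    · exact (whiskerRightIso m₁.symm (BasedFunctor.comp y (FibCat.fpSnd _ _)) :
          BasedFunctor.comp (BasedFunctor.comp (AlgSt.overMap (h₁ ≫ g₁)) y) (FibCat.fpSnd _ _) ≅
          BasedFunctor.comp (AlgSt.overMap h₁) (BasedFunctor.comp (AlgSt.overMap g₁)
            (BasedFunctor.comp y (FibCat.fpSnd _ _)))) ≪≫ j ≪≫
          (whiskerRightIso m₄.symm x' : BasedFunctor.comp (AlgSt.overMap h₂) x' ≅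
            BasedFunctor.comp (AlgSt.overMap c) (BasedFunctor.comp (AlgSt.overMap p₂) x'))
  · rw [Over.comp_left]
    infer_instance
  · rw [Over.comp_left]
    infer_instance

end K745.DiagAtlas
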