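import Groth.Prelude.Def_AlgSt3
import Groth.Prelude.Def_AlgSt2
import Groth.Prelude.Def_FibCat2
import Groth.Prelude.Def_AlgSp3
import Groth.Prelude.Def_AlgSp4
import Mathlib.AlgebraicGeometry.Sites.Fpqc
import Mathlib.AlgebraicGeometry.Morphisms.QuasiCompact
import Mathlib.AlgebraicGeometry.Morphisms.FinitePresentation
import Mathlib.AlgebraicGeometry.Morphisms.Smooth
import Mathlib.AlgebraicGeometry.Noetherian
import Mathlib.AlgebraicGeometry.Properties
import Mathlib.AlgebraicGeometry.ResidueField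
import Groth.Agent.AlgSt.K745.DiagQcAux

/-!
Proof of S15358.
-/

set_option autoImplicit false
set_option backward.isDefEq.respectTransparency false
set_option backward.isDefEq.respectTransparency.types false

universe u

open CategoryTheory AlgebraicGeometry
open AlgSt

namespace K745.DiagQc

open CategoryTheory CategoryTheory.Limits AlgebraicGeometry Opposite

theorem main (S : Scheme.{u})
    [IsLocallyNoetherian S] (𝒳 : AlgSt.Cat S) (h𝒳 : AlgSt.IsAlgStack Scheme.fppfPrecoverage 𝒳)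
    (hlfp : ∀ (U : Over S) (x : FibCat.overCat U ⥤ᵇ 𝒳),
      AlgSt.RepByAlgSpWith (AlgSp.LocP @Smooth) x → LocallyOfFinitePresentation U.hom)
    (hi : ∀ (U : Over S), IsAffine U.left → ∀ (x : FibCat.overCat U ⥤ᵇ 𝒳),
      ∃ (F : AlgSp.Space S) (e : AlgSt.ofSp F.obj ⥤ᵇ FibCat.fp (FibCat.fpLift x x (Iso.refl _)) (FibCat.diag (FibCat.toSelf 𝒳))),
        FibCat.IsEquivOver e ∧
          AlgSp.IsQuasiCompactMor (AlgSt.spMapOfOver (BasedFunctor.comp e (FibCat.fpFst _ _))))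
    (hii : ∀ (U : Over S), IsAffine U.left → IsIntegral U.left → ∀ (x y : FibCat.overCat U ⥤ᵇ 𝒳)
      (D : Set ↥U.left), Dense D →
      (∀ t ∈ D, ∃ (L : Type u) (_ : Field L) (g : Spec (CommRingCat.of L) ⟶ U.left), Set.range g.base = {t} ∧
        Nonempty (BasedFunctor.comp (AlgSt.overMap (Over.homMk g rfl : Over.mk (g ≫ U.hom) ⟶ U)) x ≅
          BasedFunctor.comp (AlgSt.overMap (Over.homMk g rfl : Over.mk (g ≫ U.hom) ⟶ U)) y)) →
      ∃ V : U.left.Opens, Dense (V : Set ↥U.left) ∧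
        Nonempty (BasedFunctor.comp (AlgSt.overMap (Over.homMk V.ι rfl : Over.mk (V.ι ≫ U.hom) ⟶ U)) x ≅
          BasedFunctor.comp (AlgSt.overMap (Over.homMk V.ι rfl : Over.mk (V.ι ≫ U.hom) ⟶ U)) y)) :
    AlgSt.RepByAlgSpWith AlgSp.IsQuasiCompactMor (FibCat.diag (FibCat.toSelf 𝒳)) := by
  obtain ⟨W, x, hs, hsurj⟩ := h𝒳.atlas
  have hWl : LocallyOfFinitePresentation W.hom := hlfp W x hs
  have hW₂ : ∃ (W₂ : Over S) (p₁ p₂ : W₂ ⟶ W), IsLocallyNoetherian W₂.left ∧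
      ∀ {U : Over S} (a : U ⟶ W) (b : U ⟶ W), ∃ c : U ⟶ W₂, c ≫ p₁ = a ∧ c ≫ p₂ = b := by
    refine ⟨Over.mk (pullback.fst W.hom W.hom ≫ W.hom), Over.homMk (pullback.fst W.hom W.hom) rfl,
      Over.homMk (pullback.snd W.hom W.hom) pullback.condition.symm, ?_, ?_⟩
    · exact LocallyOfFiniteType.isLocallyNoetherian (pullback.fst W.hom W.hom ≫ W.hom)
    intro U a b
    refine ⟨Over.homMk (pullback.lift a.left b.left (by rw [Over.w, Over.w])) ?_, ?_, ?_⟩
    · change pullback.lift _ _ _ ≫ pullback.fst _ _ ≫ W.hom = U.hom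
      rw [pullback.lift_fst_assoc, Over.w]
    · ext1
      exact pullback.lift_fst _ _ _
    · ext1
      exact pullback.lift_snd _ _ _
  obtain ⟨W₂, p₁, p₂, hW₂n, hp⟩ := hW₂
  have hx : K745.Refine.Refines x := K745.Refine.refines_of_rep hs hsurj
  have hz : K745.Refine.Refines (K745.DiagAtlas.sq p₁ p₂ x x) := K745.DiagAtlas.refines_sq p₁ p₂ hp hx hx
  refine K745.Refine.isQuasiCompactMor_of_refines_affine_opens hz h𝒳.diag fun T => ?_
  have hTa : IsAffine (Over.mk (T.1.ι ≫ W₂.hom)).left := T.2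
  have hTn : IsLocallyNoetherian (Over.mk (T.1.ι ≫ W₂.hom)).left := inferInstanceAs (IsLocallyNoetherian T.1)
  generalize BasedFunctor.comp (AlgSt.overMap (K745.Refine.opn W₂ T.1)) (K745.DiagAtlas.sq p₁ p₂ x x) = y
  obtain ⟨F, e, he⟩ := h𝒳.diag _ y
  refine ⟨F, e, he, K745.QcNoeth.isQuasiCompactMor_of_compactSpace F.property _
    (K745.QcNoeth.compactSpace_points_gen (K745.Lift.q e) ?_)⟩
  intro A _ _ sA g D hD hpts
  have hU : IsAffine (Over.mk sA).left := inferInstanceAs (IsAffine (Spec (CommRingCat.of A)))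
  have hI : IsIntegral (Over.mk sA).left := inferInstanceAs (IsIntegral (Spec (CommRingCat.of A)))
  obtain ⟨V, hV, ⟨iV⟩⟩ := hii (Over.mk sA) hU hI _ _ D hD (by
    intro t ht
    obtain ⟨pt, hpt⟩ := hpts t ht
    exact K745.DiagQcAux.exists_field_iso e he g t pt hpt)
  obtain ⟨v, hv⟩ := hV.nonempty
  obtain ⟨V', hV', hvV', hV'V⟩ := exists_isAffineOpen_mem_and_subset (X := Spec (CommRingCat.of A)) (x := v) (U := V) hv
  refine ⟨V', ⟨v, hvV'⟩, fun {P} fst snd sqP => ?_⟩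
  have hV'a : IsAffine (Over.mk (V'.ι ≫ sA)).left := hV'
  have hjj : ∃ (jj : Over.mk (V'.ι ≫ sA) ⟶ Over.mk (V.ι ≫ sA)),
      jj ≫ (Over.homMk V.ι rfl : Over.mk (V.ι ≫ sA) ⟶ Over.mk sA) = Over.homMk V'.ι rfl := by
    refine ⟨Over.homMk ((Spec (CommRingCat.of A)).homOfLE hV'V) ?_, ?_⟩
    · change (Spec (CommRingCat.of A)).homOfLE hV'V ≫ V.ι ≫ sA = V'.ι ≫ sA
      rw [Scheme.homOfLE_ι_assoc]
    · ext1
      exact Scheme.homOfLE_ι (Spec (CommRingCat.of A)) (show V' ≤ V from hV'V)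
  obtain ⟨jj, hjj⟩ := hjj
  obtain ⟨i₁⟩ := K745.DiagQcAux.iso_restrict jj _ _ _ iV
  rw [hjj] at i₁
  obtain ⟨i₂⟩ := K745.DiagQcAux.iso_pair _ g y i₁
  exact K745.DiagQcAux.compactSpace_of_iso e he _ (fun x' => hi _ hV'a x') i₂ fst snd sqP

end K745.DiagQc
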