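import Groth.Prelude.Def_AlgSt5

/-!
# The torsor `P ⟶ P/Z` of a subgroup as an object of `BZ` (helper745)
-/

set_option autoImplicit false
set_option backward.isDefEq.respectTransparency false
set_option backward.isDefEq.respectTransparency.types false

universe w v u

open CategoryTheory CategoryTheory.Limits MonoidalCategory CartesianMonoidalCategory MonObj GrpObj AlgebraicGeometry
open AlgSt

namespace K745.TorsObj

variable {S : Scheme.{u}} {Z P Q : Over S} [GrpObj Z] [GrpObj P] (z : Z ⟶ P) [IsMonHom z] (q : P ⟶ Q)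

omit [GrpObj Z] [IsMonHom z] in
theorem comp_act {T : Over S} (f : T ⟶ Z ⊗ P) :
    f ≫ ((fst Z P ≫ z) * snd Z P) = (f ≫ fst Z P ≫ z) * (f ≫ snd Z P) := comp_mul _ _ _

theorem mul_comp_z : μ[Z] ≫ z = (fst Z Z ≫ z) * (snd Z Z ≫ z) := by
  have h : μ[Z] = fst Z Z * snd Z Z := by
    rw [Hom.mul_def, lift_fst_snd, Category.id_comp]
  rw [h, mul_comp]

theorem one_act_aux : (η[Z] ▷ P) ≫ ((fst Z P ≫ z) * snd Z P) = (λ_ P).hom := by
  have h1 : (η[Z] ▷ P) ≫ fst Z P ≫ z = 1 := by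
    rw [whiskerRight_fst_assoc, IsMonHom.one_hom, toUnit_unique (fst _ _) (toUnit _), Hom.one_def]
  rw [comp_act, h1, whiskerRight_snd, _root_.one_mul, leftUnitor_hom]

theorem mul_act_aux : (μ[Z] ▷ P) ≫ ((fst Z P ≫ z) * snd Z P) =
    (α_ Z Z P).hom ≫ (Z ◁ ((fst Z P ≫ z) * snd Z P)) ≫ ((fst Z P ≫ z) * snd Z P) := by
  have h1 : (μ[Z] ▷ P) ≫ fst Z P ≫ z = (fst (Z ⊗ Z) P ≫ fst Z Z ≫ z) * (fst (Z ⊗ Z) P ≫ snd Z Z ≫ z) := by
    rw [whiskerRight_fst_assoc, mul_comp_z, comp_mul]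
  have h2 : ((α_ Z Z P).hom ≫ (Z ◁ ((fst Z P ≫ z) * snd Z P))) ≫ fst Z P ≫ z = fst (Z ⊗ Z) P ≫ fst Z Z ≫ z := by
    rw [Category.assoc, whiskerLeft_fst_assoc, associator_hom_fst_assoc]
  have h3 : ((α_ Z Z P).hom ≫ (Z ◁ ((fst Z P ≫ z) * snd Z P))) ≫ snd Z P =
      (fst (Z ⊗ Z) P ≫ snd Z Z ≫ z) * snd (Z ⊗ Z) P := by
    rw [Category.assoc, whiskerLeft_snd, ← Category.assoc, comp_act, Category.assoc, associator_hom_snd_fst_assoc,
      Category.assoc, associator_hom_snd_snd]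
  have h4 : (μ[Z] ▷ P) ≫ ((fst Z P ≫ z) * snd Z P) =
      ((fst (Z ⊗ Z) P ≫ fst Z Z ≫ z) * (fst (Z ⊗ Z) P ≫ snd Z Z ≫ z)) * snd (Z ⊗ Z) P := by
    rw [comp_act, h1, whiskerRight_snd]
  have h5 : ((α_ Z Z P).hom ≫ (Z ◁ ((fst Z P ≫ z) * snd Z P))) ≫ ((fst Z P ≫ z) * snd Z P) =
      (fst (Z ⊗ Z) P ≫ fst Z Z ≫ z) * ((fst (Z ⊗ Z) P ≫ snd Z Z ≫ z) * snd (Z ⊗ Z) P) :=
    (comp_act z _).trans (by rw [h2, h3])
  rw [Category.assoc] at h5
  exact h4.trans ((_root_.mul_assoc _ _ _).trans h5.symm)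

/-- `Z` acts on `P` by left multiplication through `z : Z ⟶ P` -/
noncomputable def act : AlgGrp.Action Z P where
  act := (fst Z P ≫ z) * snd Z P
  one_act := one_act_aux z
  mul_act := mul_act_aux z

theorem act_eq : (act z).act = (fst Z P ≫ z) * snd Z P := rfl

theorem isPullback_act (hz : Mono z)
    (h : ∀ (T : Over S) (x y : T ⟶ P), x ≫ q = y ≫ q ↔ ∃ t : T ⟶ Z, x = (t ≫ z) * y) :
    IsPullback (act z).act (snd Z P) q q := by
  have hw : (act z).act ≫ q = snd Z P ≫ q := by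
    rw [h, act_eq]
    exact ⟨fst Z P, rfl⟩
  have hl : ∀ (s : PullbackCone q q), ∃ t : s.pt ⟶ Z, s.fst = (t ≫ z) * s.snd := fun s => (h _ _ _).1 s.condition
  choose t ht using hl
  refine ⟨⟨hw⟩, ⟨PullbackCone.IsLimit.mk hw (fun s => lift (t s) s.snd) (fun s => ?_) (fun s => ?_) (fun s m h1 h2 => ?_)⟩⟩
  · rw [act_eq, comp_act, lift_fst_assoc, lift_snd, ← ht]
  · rw [lift_snd]
  · apply CartesianMonoidalCategory.hom_ext
    · rw [lift_fst, ← cancel_mono z]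
      rw [act_eq, comp_act, h2, ht] at h1
      exact (Category.assoc _ _ _).trans (mul_right_cancel h1)
    · rw [lift_snd, h2]

/-- the torsor as an object of the classifying stack -/
noncomputable def obj (hz : Mono z) (hq1 : Flat q.left) (hq2 : LocallyOfFinitePresentation q.left)
    (hq3 : Surjective q.left) (h : ∀ (T : Over S) (x y : T ⟶ P), x ≫ q = y ≫ q ↔ ∃ t : T ⟶ Z, x = (t ≫ z) * y) :
    QuotObj Scheme.fppfPrecoverage Z (trivAction Z) where
  base := Q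
  P := P
  act := act z
  π := q
  cart := isPullback_act z q hz h
  loc := by
    refine ⟨Presieve.singleton q.left, Scheme.Hom.singleton_mem_fppfPrecoverage q.left, ?_⟩
    rintro T f ⟨⟩
    exact ⟨𝟙 _, Category.id_comp _⟩
  φ := toUnit _
  eqv := toUnit_unique _ _

end K745.TorsObj
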