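import Groth.Agent.SekSuwa.K831.GPts
import Groth.Agent.Sga3.H827.DSFlat
import Groth.Agent.Sga3B.DiagSmooth
import Groth.Agent.AlgSt.K745.TorsObj
import Groth.Prelude.Def_Red2
import Groth.Agent.S12442

/-!
# The torsor `D(N) ⟶ D(N')` under `D(M)` for `0 → N' → N → M → 0` (helper745)
-/

set_option autoImplicit false
set_option backward.isDefEq.respectTransparency false
set_option backward.isDefEq.respectTransparency.types false

universe w v u

open CategoryTheory CategoryTheory.Limits MonoidalCategory CartesianMonoidalCategory MonObj GrpObj AlgebraicGeometry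
open K831.GPts K831.Pts

namespace K745.DiagTors

section

variable {R : Type u} [CommRing R] {M N : Type} [AddCommGroup M] [AddCommGroup N]

theorem ch_diagMap (φ : M →+ N) {T : Over (Spec (CommRingCat.of R))} (x : T ⟶ Red.diag R N) (m : M) :
    ch (x ≫ Red.diagMap R φ) m = ch x (φ m) := by
  rw [ch, ev_comp_right x (Red.diagMap R φ)
    (MonoidAlgebra.mapDomainAlgHom R R (AddMonoidHom.toMultiplicative φ)).toRingHom rfl, ch]
  simp

instance isMonHom_diagMap (φ : M →+ N) : IsMonHom (Red.diagMap R φ) := by
  refine ⟨?_, ?_⟩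
  · apply ch_ext
    intro m
    have h1 : (η[Red.diag R N] : 𝟙_ _ ⟶ _) = 1 := by rw [Hom.one_def, toUnit_unit, Category.id_comp]
    have h2 : (η[Red.diag R M] : 𝟙_ _ ⟶ _) = 1 := by rw [Hom.one_def, toUnit_unit, Category.id_comp]
    rw [ch_diagMap, h1, h2, ch_one, ch_one]
  · apply ch_ext
    intro m
    have h1 : μ[Red.diag R N] = fst _ _ * snd _ _ := by rw [Hom.mul_def, lift_fst_snd, Category.id_comp]
    have h2 : μ[Red.diag R M] = fst _ _ * snd _ _ := by rw [Hom.mul_def, lift_fst_snd, Category.id_comp]
    rw [ch_diagMap, h1, h2, ch_mul, comp_mul, ch_mul, tensorHom_fst, tensorHom_snd, ch_diagMap, ch_diagMap]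

theorem mono_diagMap (φ : M →+ N) (hφ : Function.Surjective φ) : Mono (Red.diagMap R φ) := by
  constructor
  intro T x y h
  apply ch_ext
  intro n
  obtain ⟨m, rfl⟩ := hφ n
  rw [← ch_diagMap, h, ch_diagMap]

/-- points of `D(N)` with the same image in `D(N')` differ by a point of `D(M)` -/
theorem agree {N' : Type} [AddCommGroup N'] (p : N →+ M) (hp : Function.Surjective p) (j : N' →+ N)
    (hj : ∀ n, p n = 0 ↔ n ∈ Set.range j) (T : Over (Spec (CommRingCat.of R))) (x y : T ⟶ Red.diag R N) :
    x ≫ Red.diagMap R j = y ≫ Red.diagMap R j ↔ ∃ t : T ⟶ Red.diag R M, x = (t ≫ Red.diagMap R p) * y := by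
  constructor
  · intro h
    have h0 : ∀ n, p n = 0 → ch x n = ch y n := by
      intro n hn
      obtain ⟨n', rfl⟩ := (hj n).1 hn
      rw [← ch_diagMap, h, ch_diagMap]
    let χ : N → Γ(T.left, ⊤) := fun n => ch x n * ch y (-n)
    have hχ0 : χ 0 = 1 := by
      change ch x 0 * ch y (-0) = 1
      rw [neg_zero, ch_zero, ch_zero, _root_.mul_one]
    have hχa : ∀ a b, χ (a + b) = χ a * χ b := by
      intro a b
      change ch x (a + b) * ch y (-(a + b)) = (ch x a * ch y (-a)) * (ch x b * ch y (-b))
      rw [neg_add, ch_add, ch_add]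
      ring
    have hχ1 : ∀ n, p n = 0 → χ n = 1 := by
      intro n hn
      change ch x n * ch y (-n) = 1
      rw [h0 n hn, ← ch_add, add_neg_cancel, ch_zero]
    have hχ : ∀ a b, p a = p b → χ a = χ b := by
      intro a b hab
      have h1 : χ (a - b) = 1 := hχ1 _ (by rw [map_sub, hab, sub_self])
      have h2 : χ a = χ (a - b) * χ b := by rw [← hχa, sub_add_cancel]
      rw [h2, h1, _root_.one_mul]
    let χ' : Multiplicative M →* Γ(T.left, ⊤) :=
      { toFun := fun m => χ (Function.surjInv hp m.toAdd)
        map_one' := by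
          rw [← hχ0]
          refine hχ _ _ ?_
          rw [Function.surjInv_eq hp, map_zero]
          rfl
        map_mul' := fun a b => by
          rw [← hχa]
          refine hχ _ _ ?_
          rw [map_add, Function.surjInv_eq hp, Function.surjInv_eq hp, Function.surjInv_eq hp]
          rfl }
    obtain ⟨t, ht⟩ := exists_ch (R := R) (T := T) χ'
    refine ⟨t, ch_ext fun n => ?_⟩
    rw [ch_mul, ch_diagMap, ht]
    have h3 : χ' (Multiplicative.ofAdd (p n)) = χ n := hχ _ _ (Function.surjInv_eq hp _)
    rw [h3]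
    change ch x n = (ch x n * ch y (-n)) * ch y n
    rw [_root_.mul_assoc, ← ch_add, neg_add_cancel, ch_zero, _root_.mul_one]
  · rintro ⟨t, rfl⟩
    apply ch_ext
    intro n'
    have h1 : p (j n') = 0 := (hj _).2 ⟨n', rfl⟩
    rw [ch_diagMap, ch_mul, ch_diagMap, h1, ch_zero, _root_.one_mul, ch_diagMap]

end

theorem smooth_diag (k : Type u) [Field k] (N : Type) [AddCommGroup N] [Module.Free ℤ N] [Module.Finite ℤ N] :
    Smooth (Red.diag k N).hom := by
  change Smooth (Spec.map (CommRingCat.ofHom (algebraMap k (MonoidAlgebra k (Multiplicative N)))))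
  rw [HasRingHomProperty.Spec_iff (P := @Smooth)]
  simp only [CommRingCat.hom_ofHom, RingHom.smooth_algebraMap]
  infer_instance

theorem flat_diag (k : Type u) [Field k] (M : Type) [AddCommGroup M] : Flat (Red.diag k M).hom := by
  change Flat (Spec.map (CommRingCat.ofHom (algebraMap k (MonoidAlgebra k (Multiplicative M)))))
  rw [HasRingHomProperty.Spec_iff (P := @Flat)]
  change (algebraMap k (MonoidAlgebra k (Multiplicative M))).Flat
  rw [RingHom.flat_algebraMap_iff]
  infer_instance

theorem isAffineHom_diag (k : Type u) [Field k] (M : Type) [AddCommGroup M] : IsAffineHom (Red.diag k M).hom := by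
  change IsAffineHom (Spec.map _)
  infer_instance

theorem lfp_diag (k : Type u) [Field k] (M : Type) [AddCommGroup M] [Finite M] :
    LocallyOfFinitePresentation (Red.diag k M).hom := by
  change LocallyOfFinitePresentation (Spec.map (CommRingCat.ofHom (algebraMap k (MonoidAlgebra k (Multiplicative M)))))
  rw [HasRingHomProperty.Spec_iff (P := @LocallyOfFinitePresentation)]
  change (algebraMap k (MonoidAlgebra k (Multiplicative M))).FinitePresentation
  have h1 : Module.Finite k (MonoidAlgebra k (Multiplicative M)) := by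
    have : Finite (Multiplicative M) := ‹Finite M›
    infer_instance
  have h2 : Algebra.FinitePresentation k (MonoidAlgebra k (Multiplicative M)) :=
    (Algebra.FinitePresentation.of_finiteType).1 inferInstance
  exact RingHom.finitePresentation_algebraMap.mpr h2

theorem surjective_diag (k : Type u) [Field k] (M : Type) [AddCommGroup M] : Surjective (Red.diag k M).hom := by
  refine ⟨fun x => ?_⟩
  have h : (η[Red.diag k M]).left ≫ (Red.diag k M).hom = 𝟙 _ := Over.w η[Red.diag k M]
  refine ⟨(η[Red.diag k M]).left x, ?_⟩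
  rw [← Scheme.Hom.comp_apply, h]
  rfl

theorem exists_torsor_of (k : Type u) [Field k] {M N N' : Type} [AddCommGroup M] [AddCommGroup N] [AddCommGroup N']
    [Module.Free ℤ N] [Module.Finite ℤ N] [Module.Free ℤ N'] [Module.Finite ℤ N'] (p : N →+ M)
    (hp : Function.Surjective p) (j : N' →+ N) (hji : Function.Injective j) (hj : ∀ n, p n = 0 ↔ n ∈ Set.range j) :
    ∃ A : AlgSt.QuotObj Scheme.fppfPrecoverage (Red.diag k M) (AlgSt.trivAction (Red.diag k M)),
      Smooth A.P.hom ∧ Surjective A.P.hom ∧ Smooth A.base.hom := by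
  have hq := Groth.Agent.Sga3.H827.DSFlat.flat_surjective_diagMap j k hji
  have h1 := smooth_diag k N
  have h2 := smooth_diag k N'
  have hq2 : LocallyOfFinitePresentation (Red.diagMap k j).left := by
    have h3 : LocallyOfFinitePresentation ((Red.diagMap k j).left ≫ (Red.diag k N').hom) := by
      rw [Over.w (Red.diagMap k j)]
      infer_instance
    exact Groth.Agent.S12442.result (Red.diagMap k j).left (Red.diag k N').hom
  have ha := agree (R := k) p hp j hj
  have hm : Mono (Red.diagMap k p) := mono_diagMap (R := k) p hp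
  exact ⟨K745.TorsObj.obj (Z := Red.diag k M) (P := Red.diag k N) (Q := Red.diag k N') (Red.diagMap k p)
    (Red.diagMap k j) hm hq.1 hq2 hq.2 ha, h1, surjective_diag k N, h2⟩

/-- **The torsor under `D(M)`**, `M` finite, with smooth total space and smooth base. -/
theorem exists_torsor (k : Type u) [Field k] (M : Type) [AddCommGroup M] [Finite M] :
    ∃ A : AlgSt.QuotObj Scheme.fppfPrecoverage (Red.diag k M) (AlgSt.trivAction (Red.diag k M)),
      Smooth A.P.hom ∧ Surjective A.P.hom ∧ Smooth A.base.hom := by
  obtain ⟨L, hL⟩ : ∃ L : (M →₀ ℤ) →ₗ[ℤ] M, Function.Surjective L :=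
    ⟨Finsupp.linearCombination ℤ (id : M → M), fun m => ⟨Finsupp.single m 1, by
      rw [Finsupp.linearCombination_single, one_smul]; rfl⟩⟩
  refine exists_torsor_of k L.toAddMonoidHom hL (LinearMap.ker L).subtype.toAddMonoidHom Subtype.val_injective
    (fun n => ⟨fun h => ⟨⟨n, h⟩, rfl⟩, ?_⟩)
  rintro ⟨n', rfl⟩
  exact n'.2

end K745.DiagTors
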