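import Groth.Agent.S2596
import Mathlib.AlgebraicGeometry.Morphisms.FlatMono
import Mathlib.AlgebraicGeometry.Morphisms.Immersion
import Mathlib.AlgebraicGeometry.ZariskisMainTheorem

/-!
A monomorphism of finite type to a locally Noetherian scheme along which maps from spectra of discrete
valuation rings lift as soon as both points lift is an immersion.
-/

set_option autoImplicit false
universe u
open CategoryTheory CategoryTheory.Limits AlgebraicGeometry

namespace K745.DvrImm

/-- A point of the target of a monomorphism with values in a field lifts as soon as its image is in the image. -/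
theorem exists_lift_of_mono {X Y : Scheme.{u}} (f : X ⟶ Y) [Mono f] [QuasiCompact f]
    {k : Type u} [Field k] (p : Spec (CommRingCat.of k) ⟶ Y) (x : X)
    (t : ↥(Spec (CommRingCat.of k))) (hx : f x = p t) :
    ∃ τ : Spec (CommRingCat.of k) ⟶ X, τ ≫ f = p := by
  obtain ⟨z, -, -⟩ := Scheme.Pullback.exists_preimage_pullback x t hx
  have hs : Surjective (pullback.snd f p) := ⟨fun t => ⟨z, Subsingleton.elim _ _⟩⟩
  have hfl : Flat (pullback.snd f p) := inferInstance
  have hi : IsIso (pullback.snd f p) := Flat.isIso_of_surjective_of_mono _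
  exact ⟨inv (pullback.snd f p) ≫ pullback.fst f p, by
    rw [Category.assoc, pullback.condition, IsIso.inv_hom_id_assoc]⟩

/-- A mono which is a closed immersion over a neighbourhood of each point of its image is an immersion. -/
theorem isImmersion_of_forall {X Y : Scheme.{u}} (f : X ⟶ Y)
    (h : ∀ x : X, ∃ U : Y.Opens, f x ∈ U ∧ IsClosedImmersion (f ∣_ U)) : IsImmersion f := by
  choose U hxU hU using h
  let V : Y.Opens := ⨆ x, U x
  have hr : Set.range f ⊆ Set.range V.ι := by
    rintro _ ⟨x, rfl⟩
    rw [Scheme.Opens.range_ι]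
    exact TopologicalSpace.Opens.mem_iSup.2 ⟨x, hxU x⟩
  let f' : X ⟶ V := IsOpenImmersion.lift V.ι f hr
  have hf' : f' ≫ V.ι = f := IsOpenImmersion.lift_fac _ _ _
  have hc : IsClosedImmersion f' := by
    rw [IsZariskiLocalAtTarget.iff_of_iSup_eq_top (P := @IsClosedImmersion) (fun x : X => V.ι ⁻¹ᵁ U x)]
    · intro x
      have h1 : IsClosedImmersion ((f' ≫ V.ι) ∣_ U x) := by rw [hf']; exact hU x
      rw [morphismRestrict_comp] at h1
      have h2 : IsSeparated (V.ι ∣_ U x) := inferInstance
      exact @IsClosedImmersion.of_comp _ _ _ _ (V.ι ∣_ U x) h1 h2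
    · apply top_le_iff.1
      rintro ⟨y, hy⟩ -
      obtain ⟨x, hx⟩ := TopologicalSpace.Opens.mem_iSup.1 hy
      exact TopologicalSpace.Opens.mem_iSup.2 ⟨x, hx⟩
  rw [← hf']
  infer_instance

/-- A monomorphism of finite type to a locally Noetherian scheme along which maps from spectra of discrete
valuation rings lift as soon as both points lift is an immersion. -/
theorem isImmersion_of_mono_of_dvr {X Y : Scheme.{u}} [IsLocallyNoetherian Y] (f : X ⟶ Y) [Mono f]
    [LocallyOfFiniteType f] [QuasiCompact f]
    (h : ∀ (A : Type u) [CommRing A] [IsDomain A] [IsDiscreteValuationRing A]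
      (g : Spec (CommRingCat.of A) ⟶ Y),
      (∃ σ : Spec (CommRingCat.of (FractionRing A)) ⟶ X,
        σ ≫ f = Spec.map (CommRingCat.ofHom (algebraMap A (FractionRing A))) ≫ g) →
      (∃ τ : Spec (CommRingCat.of (IsLocalRing.ResidueField A)) ⟶ X,
        τ ≫ f = Spec.map (CommRingCat.ofHom (IsLocalRing.residue A)) ≫ g) →
      ∃ s : Spec (CommRingCat.of A) ⟶ X, s ≫ f = g) : IsImmersion f := by
  apply isImmersion_of_forall
  intro x
  obtain ⟨U, hxU, hU⟩ := Groth.Agent.S2596.result f (f x) (by
    intro A _ _ _ g hg σ hσ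
    have h1 : ∃ τ : Spec (CommRingCat.of (IsLocalRing.ResidueField A)) ⟶ X,
        τ ≫ f = Spec.map (CommRingCat.ofHom (IsLocalRing.residue A)) ≫ g := by
      refine exists_lift_of_mono f _ x (IsLocalRing.closedPoint (IsLocalRing.ResidueField A)) ?_
      have h2 : Spec.map (CommRingCat.ofHom (IsLocalRing.residue A))
          (IsLocalRing.closedPoint (IsLocalRing.ResidueField A)) = IsLocalRing.closedPoint A :=
        IsLocalRing.comap_closedPoint (IsLocalRing.residue A)
      exact hg.symm.trans (congrArg g h2).symm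
    obtain ⟨s, hs⟩ := h A g ⟨σ ≫ pullback.fst f g, by
      rw [Category.assoc, pullback.condition, reassoc_of% hσ]⟩ h1
    refine ⟨pullback.lift s (𝟙 _) (hs.trans (Category.id_comp g).symm), pullback.lift_snd _ _ _, ?_⟩
    have : Mono (pullback.snd f g) := inferInstance
    rw [← cancel_mono (pullback.snd f g), hσ, Category.assoc, pullback.lift_snd, Category.comp_id])
  refine ⟨U, hxU, ?_⟩
  rw [IsClosedImmersion.iff_isProper_and_mono]
  refine ⟨hU, ?_⟩
  have h3 : Mono (f ∣_ U ≫ U.ι) := by
    rw [morphismRestrict_ι]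
    infer_instance
  exact mono_of_mono (f ∣_ U) U.ι

end K745.DvrImm
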