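import Groth.Agent.AlgSt.K745.AutTriv

/-!
A 2-endomorphism of a functor of stacks which is trivial over a dense open algebraic space is trivial.
-/

set_option autoImplicit false
set_option backward.isDefEq.respectTransparency false
set_option backward.isDefEq.respectTransparency.types false

universe w v u

open CategoryTheory CategoryTheory.Limits AlgebraicGeometry Opposite

namespace K745.EndTrans

open K739.Isom K745.Locus K745.AutTriv K745.Lift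

variable {S : Scheme.{u}} {𝒳 𝒴 𝒰 𝒱 : AlgSt.Cat S}

/-- Over an open substack whose image lies in an algebraic space every 2-endomorphism is trivial. -/
theorem app_eq_id_of_factor (h𝒴 : FibCat.IsFibGrpd 𝒴.p) {F : 𝒳 ⥤ᵇ 𝒴} {i : 𝒰 ⥤ᵇ 𝒳} {j : 𝒱 ⥤ᵇ 𝒴}
    (hj : AlgSt.IsOpenImm j) (h𝒱 : AlgSt.RepByAlgSp 𝒱) (G : 𝒰 ⥤ᵇ 𝒱)
    (e : BasedFunctor.comp G j ≅ BasedFunctor.comp i F) (α : F ⟶ F) (u₀ : 𝒰.obj) :
    α.toNatTrans.app (i.obj u₀) = 𝟙 _ := by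
  have hm : AlgSt.IsMono j := K737.RepW.isMono_of_repWith (fun f hf => by have := hf; infer_instance) j hj
  have hfull := (K740.Mono.full_faithful_of_isMono h𝒴 j hm).1
  have hset := K735.Setoid.isFibSetoid_of_repByAlgSp h𝒱
  let β : j.obj (G.obj u₀) ≅ F.obj (i.obj u₀) := K734.Fib.app e u₀
  have hβ : K734.Fib.IsVert 𝒴 β.hom := K734.Fib.app_vert e u₀
  refine conj_eq_id β ?_
  obtain ⟨δ, hδ⟩ := j.toFunctor.map_surjective (β.hom ≫ α.toNatTrans.app (i.obj u₀) ≫ β.inv)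
  have hv : K734.Fib.IsVert 𝒴 (j.map δ) := by
    have : j.map δ = β.hom ≫ α.toNatTrans.app (i.obj u₀) ≫ β.inv := hδ
    rw [this]
    exact hβ.comp ((K734.Fib.hom_vert α _).comp hβ.inv)
  have hv' : K734.Fib.IsVert 𝒱 δ := K734.Fib.IsVert.of_map j hv
  have h1 : δ = 𝟙 _ := by
    refine K734.Fib.eq_of_setoid hset ?_
    rw [hv'.map_eq, 𝒱.p.map_id]
    rfl
  rw [← hδ, h1]
  exact j.map_id _

theorem arr_natural {F : 𝒳 ⥤ᵇ 𝒴} (α : F ⟶ F) {T R : Over S} (y : FibCat.overCat T ⥤ᵇ 𝒳) (r : R ⟶ T)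
    (h : α.toNatTrans.app (y.obj (pt r)) = 𝟙 _) :
    (BasedFunctor.comp y F).map (arr r (Category.comp_id r)) ≫ α.toNatTrans.app (y.obj (pt (𝟙 T))) =
      (BasedFunctor.comp y F).map (arr r (Category.comp_id r)) := by
  have h1 := α.toNatTrans.naturality (y.map (arr r (Category.comp_id r)))
  have h2 : F.map (y.map (arr r (Category.comp_id r))) ≫ α.toNatTrans.app (y.obj (pt (𝟙 T))) =
    α.toNatTrans.app (y.obj (pt r)) ≫ F.map (y.map (arr r (Category.comp_id r))) := h1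
  rw [h] at h2
  exact h2.trans (Category.id_comp _)

/-- Restricting along a 2-isomorphism of restrictions. -/
theorem app_pt_of_iso (h𝒴 : FibCat.IsFibGrpd 𝒴.p) {F : 𝒳 ⥤ᵇ 𝒴} (α : F ⟶ F) {T R : Over S}
    (y : FibCat.overCat T ⥤ᵇ 𝒳) (r : R ⟶ T) (z : FibCat.overCat R ⥤ᵇ 𝒳)
    (i : BasedFunctor.comp (AlgSt.overMap r) y ≅ z) (h : α.toNatTrans.app (z.obj (pt (𝟙 R))) = 𝟙 _) :
    α.toNatTrans.app (y.obj (pt r)) = 𝟙 _ := by
  refine app_eq_id_of_hom h𝒴 α (?_ : y.obj (pt r) ⟶ z.obj (pt (𝟙 R))) h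
  exact y.map (Over.homMk (𝟙 R) rfl : pt r ⟶ (AlgSt.overMap r).obj (pt (𝟙 R))) ≫ (K734.Fib.app i (pt (𝟙 R))).hom

theorem main (h𝒳 : FibCat.IsFibGrpd 𝒳.p) (h𝒴 : FibCat.IsFibGrpd 𝒴.p) (h𝒰' : FibCat.IsFibGrpd 𝒰.p)
    (hatlas : AlgSt.HasAtlas (AlgSp.LocP @Smooth) 𝒳) (hU : AlgSt.IsDMOver 𝒴)
    (hΔ : AlgSt.RepByAlgSpWith AlgSp.IsSeparatedMor (FibCat.diag (FibCat.toSelf 𝒴)))
    (F : 𝒳 ⥤ᵇ 𝒴)
    (i : 𝒰 ⥤ᵇ 𝒳) (hi : AlgSt.IsOpenImm i)
    (hdense : Dense (Set.range (AlgSt.Points.map i)))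
    (j : 𝒱 ⥤ᵇ 𝒴) (hj : AlgSt.IsOpenImm j) (h𝒱 : AlgSt.RepByAlgSp 𝒱)
    (G : 𝒰 ⥤ᵇ 𝒱) (e : BasedFunctor.comp G j ≅ BasedFunctor.comp i F)
    (α : F ⟶ F) : α = 𝟙 F := by
  obtain ⟨W, w, hw, hw'⟩ := hatlas
  -- the automorphism on the atlas
  have hvW : 𝒴.p.IsHomLift (𝟙 W) (α.toNatTrans.app (w.obj (pt (𝟙 W)))) :=
    (K734.Fib.hom_vert α _).lift ((BasedFunctor.comp w F).w_obj _)
  have keyW : α.toNatTrans.app (w.obj (pt (𝟙 W))) = 𝟙 _ := by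
    obtain ⟨E₁, e₁, he₁, hE₁⟩ := exists_open_locus h𝒴 hU (BasedFunctor.comp w F) _ hvW
    obtain ⟨E₂, e₂, he₂, hE₂⟩ := exists_closed_locus h𝒴 hΔ (BasedFunctor.comp w F) _ hvW
    refine eq_id_of_surjective he₁ hE₁ ?_
    -- the range is closed
    have hr : Set.range e₁.left = Set.range e₂.left := by
      obtain ⟨k₁, hk₁⟩ := (hE₂ E₁ e₁).1 ((hE₁ E₁ e₁).2 ⟨𝟙 _, Category.id_comp _⟩)
      obtain ⟨k₂, hk₂⟩ := (hE₁ E₂ e₂).1 ((hE₂ E₂ e₂).2 ⟨𝟙 _, Category.id_comp _⟩)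
      apply Set.Subset.antisymm
      · rintro _ ⟨t, rfl⟩
        exact ⟨k₁.left t, by rw [← hk₁]; rfl⟩
      · rintro _ ⟨t, rfl⟩
        exact ⟨k₂.left t, by rw [← hk₂]; rfl⟩
    have hcl : IsClosed (Set.range e₁.left) := by
      rw [hr]
      exact e₂.left.isClosedEmbedding.isClosed_range
    -- the open part over `𝒰`
    obtain ⟨F', e', he', hq⟩ := hi W w
    obtain ⟨W', j', fst, sq⟩ := hq.1 (𝟙 _)
    have hfst : IsIso fst := sq.isIso_fst_of_isIso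
    have hsec : fst ≫ q e' = (AlgSp.yon S).map j' := by
      rw [sq.w, Category.comp_id]
    obtain ⟨n⟩ := nonempty_iso_of_sec e' j' fst hsec
    have h1 : α.toNatTrans.app (w.obj (pt j')) = 𝟙 _ :=
      app_pt_of_iso h𝒴 α w j' _ n.symm (app_eq_id_of_factor h𝒴 hj h𝒱 G e α _)
    obtain ⟨m, hm⟩ := (hE₁ W' j').1 (arr_natural α w j' h1)
    have hsub : Set.range j'.left ⊆ Set.range e₁.left := by
      rintro _ ⟨t, rfl⟩
      exact ⟨m.left t, by rw [← hm]; rfl⟩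
    -- density
    have hop : IsOpenMap (AlgSt.Points.ofChart w) :=
      K735.Top.isOpenMap_ofChart w (K735.Top.isOpenMap_map K735.Top.isOpenMap_of_smooth h𝒳
        (K735.Fp.isFibGrpd_overCat W) (K735.Top.chartCont_overCat W) hw)
    have hd : Dense (AlgSt.Points.ofChart w ⁻¹' (Set.range (AlgSt.Points.map i))) := hdense.preimage hop
    have hsub2 : AlgSt.Points.ofChart w ⁻¹' (Set.range (AlgSt.Points.map i)) ⊆ Set.range j'.left := by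
      rintro t ⟨z, hz⟩
      obtain ⟨ξ, hξ, -⟩ := (K735.Top.exists_rep_fp h𝒳 h𝒰' w e' he' t z).1 hz.symm
      obtain ⟨t', ht'⟩ := K609.Points.ofScheme_surjective W' (AlgSp.Points.map (inv fst) ξ)
      refine ⟨t', ?_⟩
      have h2 : AlgSp.Points.map ((AlgSp.yon S).map j') (AlgSp.Points.ofScheme W' t') = AlgSp.Points.ofScheme W t := by
        rw [ht', ← AlgSp.Points.map_comp, ← hsec, IsIso.inv_hom_id_assoc]
        exact hξ
      rw [K609.Points.map_yon_map_ofScheme] at h2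
      exact (AlgSp.Points.schemeEquiv W).injective h2
    have hd' : Dense (Set.range e₁.left) := hd.mono (hsub2.trans hsub)
    have h3 : Set.range e₁.left = Set.univ := by
      rw [← hcl.closure_eq]
      exact hd'.closure_eq
    exact Set.range_eq_univ.1 h3
  -- general objects
  apply BasedNatTrans.homCategory.ext
  ext x
  change α.toNatTrans.app x = 𝟙 _
  obtain ⟨y, ε, hε⟩ := K734.Fib.exists_yo h𝒳 x rfl
  refine app_eq_id_of_hom h𝒴 α ε.inv ?_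
  have hv : 𝒴.p.IsHomLift (𝟙 (𝒳.p.obj x)) (α.toNatTrans.app (y.obj (pt (𝟙 (𝒳.p.obj x))))) :=
    (K734.Fib.hom_vert α _).lift ((BasedFunctor.comp y F).w_obj _)
  obtain ⟨E₁, e₁, he₁, hE₁⟩ := exists_open_locus h𝒴 hU (BasedFunctor.comp y F) _ hv
  refine eq_id_of_surjective he₁ hE₁ ?_
  obtain ⟨U', g₁, g₂, ⟨k⟩, hg₁, hg₁'⟩ := K745.Refine.exists_refinement hw hw' y
  have h4 : α.toNatTrans.app (y.obj (pt g₁)) = 𝟙 _ := by
    refine app_pt_of_iso h𝒴 α y g₁ _ k ?_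
    refine app_eq_id_of_hom h𝒴 α (?_ : w.obj _ ⟶ w.obj (pt (𝟙 W))) keyW
    exact w.map (Over.homMk g₂ rfl : (AlgSt.overMap g₂).obj (pt (𝟙 U')) ⟶ pt (𝟙 W))
  obtain ⟨m, hm⟩ := (hE₁ U' g₁).1 (arr_natural α y g₁ h4)
  intro t
  obtain ⟨t', rfl⟩ := hg₁'.surj t
  exact ⟨m.left t', by rw [← hm]; rfl⟩

end K745.EndTrans
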