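import Groth.Agent.AlgSt.K735.Rep
import Groth.Prelude.Def_AlgSt3

/-!
Lifts of `g : U' ⟶ U` along `f : 𝒴 ⟶ 𝒳` (over `y : (Sch/U) ⟶ 𝒳`) are the same as sections over `U'` of a sheaf representing
`(Sch/U) ×_𝒳 𝒴`.
-/

set_option autoImplicit false
set_option backward.isDefEq.respectTransparency false
set_option backward.isDefEq.respectTransparency.types false

universe v₃ u₃ v₂ u₂ v u

open CategoryTheory CategoryTheory.Limits AlgebraicGeometry Opposite K735.Fib K735.Fp K735.Rep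

namespace K745.Lift

variable {S : Scheme.{u}}

theorem spMapOfOver_overMap {U' U : Over S} (g : U' ⟶ U) :
    AlgSt.spMapOfOver (BasedFunctor.comp (AlgSt.toOverCat U') (AlgSt.overMap g)) = (AlgSp.yon S).map g := by
  apply ObjectProperty.hom_ext
  apply NatTrans.ext
  funext T
  ext x
  change (⟨AlgSt.secHom (BasedFunctor.comp (AlgSt.toOverCat U') (AlgSt.overMap g)) ⟨T.unop, x⟩⟩ : ULift _) =
    ⟨x.down ≫ g⟩
  apply ULift.ext
  change eqToHom _ ≫ (x.down ≫ g) = x.down ≫ g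
  simp

/-- `overMap g` through the dictionary. -/
def overMapIso {U' U : Over S} (g : U' ⟶ U) :
    BasedFunctor.comp (AlgSt.ofOverCat U')
      (BasedFunctor.comp (AlgSt.ofSpMap ((AlgSp.yon S).map g)) (AlgSt.toOverCat U)) ≅ AlgSt.overMap g :=
  Iso.refl _

variable {𝒳 : BasedCategory.{v₂, u₂} (Over S)} {𝒴 : BasedCategory.{v₃, u₃} (Over S)} {f : 𝒴 ⥤ᵇ 𝒳} {U : Over S}
  {y : FibCat.overCat U ⥤ᵇ 𝒳} {F : AlgSp.Sp S} (e : AlgSt.ofSp F ⥤ᵇ FibCat.fp y f)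

/-- The map of sheaves `F ⟶ h_U` of a representation of the fibre product. -/
noncomputable abbrev q : F ⟶ (AlgSp.yon S).obj U := AlgSt.spMapOfOver (BasedFunctor.comp e (FibCat.fpFst y f))

/-- The functor `(Sch/U') ⟶ 𝒴` of a section of `F` over `U'`. -/
noncomputable def liftOfSec {U' : Over S} (s : (AlgSp.yon S).obj U' ⟶ F) : FibCat.overCat U' ⥤ᵇ 𝒴 :=
  BasedFunctor.comp (AlgSt.ofOverCat U') (BasedFunctor.comp (AlgSt.ofSpMap s) (BasedFunctor.comp e (FibCat.fpSnd y f)))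

theorem nonempty_iso_of_sec {U' : Over S} (g : U' ⟶ U) (s : (AlgSp.yon S).obj U' ⟶ F)
    (hs : s ≫ q e = (AlgSp.yon S).map g) :
    Nonempty (BasedFunctor.comp (liftOfSec e s) f ≅ BasedFunctor.comp (AlgSt.overMap g) y) := by
  have h1 : BasedFunctor.comp (liftOfSec e s) f ≅
      BasedFunctor.comp (AlgSt.ofOverCat U') (BasedFunctor.comp (AlgSt.ofSpMap s)
        (BasedFunctor.comp e (BasedFunctor.comp (FibCat.fpFst y f) y))) :=
    (whiskerLeftIso (AlgSt.ofOverCat U') (whiskerLeftIso (AlgSt.ofSpMap s) (whiskerLeftIso e (FibCat.fpIso y f)))).symm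
  obtain ⟨h2⟩ := exists_iso_spMapOfOver (BasedFunctor.comp (AlgSt.ofSpMap s)
    (BasedFunctor.comp e (FibCat.fpFst y f)))
  rw [spMapOfOver_comp_ofSpMap, hs] at h2
  have h3 : BasedFunctor.comp (AlgSt.ofOverCat U') (BasedFunctor.comp (AlgSt.ofSpMap s)
        (BasedFunctor.comp e (BasedFunctor.comp (FibCat.fpFst y f) y))) ≅
      BasedFunctor.comp (BasedFunctor.comp (AlgSt.ofOverCat U')
      (BasedFunctor.comp (AlgSt.ofSpMap ((AlgSp.yon S).map g)) (AlgSt.toOverCat U))) y :=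
    whiskerLeftIso (AlgSt.ofOverCat U') (whiskerRightIso h2 y)
  exact ⟨h1 ≪≫ h3⟩

theorem exists_sec_of_iso (he : FibCat.IsEquivOver e) {U' : Over S} (g : U' ⟶ U) (yU : FibCat.overCat U' ⥤ᵇ 𝒴)
    (i : BasedFunctor.comp yU f ≅ BasedFunctor.comp (AlgSt.overMap g) y) :
    ∃ s : (AlgSp.yon S).obj U' ⟶ F, s ≫ q e = (AlgSp.yon S).map g ∧ Nonempty (liftOfSec e s ≅ yU) := by
  obtain ⟨k, hk, ⟨k₁⟩, ⟨k₂⟩⟩ := IsEquivOver.exists_inv he
  let L : FibCat.overCat U' ⥤ᵇ FibCat.fp y f := FibCat.fpLift (AlgSt.overMap g) yU i.symm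
  obtain ⟨j⟩ := exists_iso_spMap (BasedFunctor.comp (AlgSt.toOverCat U') (BasedFunctor.comp L k))
  refine ⟨spMap (BasedFunctor.comp (AlgSt.toOverCat U') (BasedFunctor.comp L k)), ?_, ?_⟩
  · rw [← spMapOfOver_comp_ofSpMap, ← spMapOfOver_overMap]
    refine spMapOfOver_eq_of_iso ?_
    exact whiskerRightIso j.symm (BasedFunctor.comp e (FibCat.fpFst y f)) ≪≫
      (whiskerLeftIso (AlgSt.toOverCat U') (whiskerLeftIso L (whiskerRightIso k₂ (FibCat.fpFst y f))) :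
        BasedFunctor.comp (AlgSt.toOverCat U') (BasedFunctor.comp L
          (BasedFunctor.comp (BasedFunctor.comp k e) (FibCat.fpFst y f))) ≅
        BasedFunctor.comp (AlgSt.toOverCat U') (BasedFunctor.comp L (FibCat.fpFst y f)))
  · refine ⟨?_⟩
    exact (whiskerLeftIso (AlgSt.ofOverCat U') (whiskerRightIso j.symm (BasedFunctor.comp e (FibCat.fpSnd y f))) ≪≫
      (whiskerLeftIso L (whiskerRightIso k₂ (FibCat.fpSnd y f)) :
        BasedFunctor.comp L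
          (BasedFunctor.comp (BasedFunctor.comp k e) (FibCat.fpSnd y f)) ≅
        (BasedFunctor.comp L (FibCat.fpSnd y f))))

/-- Lifts of `g` to `𝒴` exist iff sections of `F` over `g` exist. -/
theorem exists_lift_iff (he : FibCat.IsEquivOver e) {U' : Over S} (g : U' ⟶ U) :
    (∃ yU : FibCat.overCat U' ⥤ᵇ 𝒴, Nonempty (BasedFunctor.comp yU f ≅ BasedFunctor.comp (AlgSt.overMap g) y)) ↔
      ∃ s : (AlgSp.yon S).obj U' ⟶ F, s ≫ q e = (AlgSp.yon S).map g := by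
  constructor
  · rintro ⟨yU, ⟨i⟩⟩
    obtain ⟨s, hs, -⟩ := exists_sec_of_iso e he g yU i
    exact ⟨s, hs⟩
  · rintro ⟨s, hs⟩
    exact ⟨liftOfSec e s, nonempty_iso_of_sec e g s hs⟩

end K745.Lift

namespace K745.Lift

variable {S : Scheme.{u}}

theorem exists_overMapComp {U'' U' U : Over S} (g : U'' ⟶ U') (h : U' ⟶ U) :
    Nonempty (BasedFunctor.comp (AlgSt.overMap g) (AlgSt.overMap h) ≅ AlgSt.overMap (g ≫ h)) := by
  obtain ⟨i⟩ := exists_iso_spMapOfOver (BasedFunctor.comp (AlgSt.toOverCat U'')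
    (BasedFunctor.comp (AlgSt.overMap g) (AlgSt.overMap h)))
  have : AlgSt.spMapOfOver (BasedFunctor.comp (AlgSt.toOverCat U'')
    (BasedFunctor.comp (AlgSt.overMap g) (AlgSt.overMap h))) = (AlgSp.yon S).map (g ≫ h) := by
    apply ObjectProperty.hom_ext
    apply NatTrans.ext
    funext T
    ext x
    change (⟨AlgSt.secHom (BasedFunctor.comp (AlgSt.toOverCat U'')
      (BasedFunctor.comp (AlgSt.overMap g) (AlgSt.overMap h))) ⟨T.unop, x⟩⟩ : ULift _) = ⟨x.down ≫ g ≫ h⟩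
    apply ULift.ext
    change eqToHom _ ≫ ((x.down ≫ g) ≫ h) = x.down ≫ g ≫ h
    simp
  rw [this] at i
  exact ⟨(whiskerLeftIso (AlgSt.ofOverCat U'') i : BasedFunctor.comp (AlgSt.overMap g) (AlgSt.overMap h) ≅ _)⟩

variable {𝒳 : BasedCategory.{v₂, u₂} (Over S)} {𝒴 : BasedCategory.{v₃, u₃} (Over S)} {f : 𝒴 ⥤ᵇ 𝒳} {U : Over S}
  {y : FibCat.overCat U ⥤ᵇ 𝒳} {F : AlgSp.Sp S} (e : AlgSt.ofSp F ⥤ᵇ FibCat.fp y f)

theorem exists_lift_comp_iff (he : FibCat.IsEquivOver e) {U'' U' : Over S} (h : U'' ⟶ U') (g : U' ⟶ U) :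
    (∃ yU : FibCat.overCat U'' ⥤ᵇ 𝒴, Nonempty (BasedFunctor.comp yU f ≅
      BasedFunctor.comp (AlgSt.overMap h) (BasedFunctor.comp (AlgSt.overMap g) y))) ↔
      ∃ s : (AlgSp.yon S).obj U'' ⟶ F, s ≫ q e = (AlgSp.yon S).map (h ≫ g) := by
  rw [← exists_lift_iff e he]
  obtain ⟨i⟩ := exists_overMapComp h g
  have j : BasedFunctor.comp (AlgSt.overMap h) (BasedFunctor.comp (AlgSt.overMap g) y) ≅
      BasedFunctor.comp (AlgSt.overMap (h ≫ g)) y := whiskerRightIso i y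
  constructor
  · rintro ⟨yU, ⟨k⟩⟩
    exact ⟨yU, ⟨k ≪≫ j⟩⟩
  · rintro ⟨yU, ⟨k⟩⟩
    exact ⟨yU, ⟨k ≪≫ j.symm⟩⟩

end K745.Lift
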