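import Groth.Agent.AlgSp.K597.EtLoc
import Groth.Agent.AlgSp.K597.Chart
import Groth.Agent.AlgSp.K598.RepKit
import Mathlib.AlgebraicGeometry.Morphisms.FlatMono

/-!
A monomorphism `F ⟶ h_T` locally of finite type is locally quasi-finite and separated.
-/

set_option autoImplicit false
set_option backward.isDefEq.respectTransparency false
set_option backward.isDefEq.respectTransparency.types false

universe u

open CategoryTheory CategoryTheory.Limits AlgebraicGeometry Opposite AlgSp

namespace K745.MonoLqf

variable {S : Scheme.{u}}

theorem isSeparatedMor_of_mono {F G : Sp S} (q : F ⟶ G) [Mono q] : IsSeparatedMor q := by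
  have : IsIso (pullback.diagonal q) := inferInstance
  exact K598.RepKit.repWith_of_isIso _

theorem lqf_of_chart {F : Sp S} {T U : Over S} (q : F ⟶ (yon S).obj T) [Mono q] (a : (yon S).obj U ⟶ F)
    (ha : RepWith @Etale a) (h : U ⟶ T) (hh : a ≫ q = (yon S).map h) (hl : LocallyOfFiniteType h.left) :
    LocallyQuasiFinite h.left := by
  obtain ⟨R, s, t, sq, ht⟩ := K597.exists_sq2 ha a
  have hs : Etale s.left := K597.repWith_prop' ha sq
  have sq1 : IsPullback ((yon S).map s) ((yon S).map t) (a ≫ q) (a ≫ q) := by
    refine ⟨⟨by rw [← Category.assoc, sq.w, Category.assoc]⟩, ⟨PullbackCone.IsLimit.mk _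
      (fun c => sq.lift c.fst c.snd ?_) ?_ ?_ ?_⟩⟩
    · have := c.condition
      rw [← cancel_mono q]
      simpa using this
    · intro c
      exact sq.lift_fst _ _ _
    · intro c
      exact sq.lift_snd _ _ _
    · intro c m h1 h2
      apply sq.hom_ext
      · rw [h1, sq.lift_fst]
      · rw [h2, sq.lift_snd]
  rw [hh] at sq1
  have sq2 : IsPullback s t h h :=
    IsPullback.of_map (yon S) ((yon S).map_injective (by rw [Functor.map_comp, Functor.map_comp]; exact sq1.w)) sq1
  have sq3 : IsPullback s.left t.left h.left h.left := sq2.map (Over.forget S)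
  -- the diagonal of `h`
  have hop : IsOpenImmersion (pullback.diagonal h.left) := by
    let e : R.left ≅ pullback h.left h.left := sq3.isoPullback
    have h1 : pullback.diagonal h.left ≫ e.inv ≫ s.left = 𝟙 _ := by
      rw [sq3.isoPullback_inv_fst]
      simp
    have h2 : Etale (pullback.diagonal h.left ≫ e.inv) := by
      have : Etale ((pullback.diagonal h.left ≫ e.inv) ≫ s.left) := by
        rw [Category.assoc, h1]; infer_instance
      exact Etale.of_comp _ s.left
    have h3 : Etale (pullback.diagonal h.left) := by
      have : pullback.diagonal h.left = (pullback.diagonal h.left ≫ e.inv) ≫ e.hom := by simp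
      rw [this]
      infer_instance
    have h4 : Mono (pullback.diagonal h.left) := inferInstance
    exact IsOpenImmersion.of_flat_of_mono _
  have : FormallyUnramified h.left := inferInstance
  exact K597.locallyQuasiFinite_of_unramified h.left

theorem locP_lqf_of_mono {F : Sp S} {T : Over S} (q : F ⟶ (yon S).obj T) [Mono q]
    (hq : LocP @LocallyOfFiniteType q) : LocP (@LocallyQuasiFinite ⊓ @LocallyOfFiniteType) q := by
  intro U V a b h ha hb hab
  obtain ⟨β, rfl⟩ := (yon S).map_surjective b
  have hβ : Etale β.left := (repWith_yon_map_iff @Etale β).1 hb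
  have h1 : LocallyOfFiniteType (h ≫ β).left :=
    hq a (𝟙 _) (h ≫ β) ha (MorphismProperty.id_mem _ _) (by rw [hab, Functor.map_comp, Category.comp_id])
  have h2 : LocallyQuasiFinite (h ≫ β).left :=
    lqf_of_chart q a ha (h ≫ β) (by rw [hab, Functor.map_comp]) h1
  exact K597.etLoc_lqf.cancel h.left β.left hβ ⟨h2, h1⟩

end K745.MonoLqf
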