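import Groth.Agent.AlgSt.K745.DvrImm
import Groth.Agent.AlgSt.K745.MonoLqf
import Groth.Agent.AlgSt.K745.Lift
import Groth.Agent.AlgSp.K609.Points
import Groth.Agent.AlgSp.K596.QC

/-!
A representable quasi-compact monomorphism of finite presentation `F ⟶ h_T`, `T` locally Noetherian, with the lifting
property for discrete valuation rings is a quasi-compact immersion.
-/

set_option autoImplicit false
set_option backward.isDefEq.respectTransparency false
set_option backward.isDefEq.respectTransparency.types false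

universe u

open CategoryTheory CategoryTheory.Limits AlgebraicGeometry Opposite AlgSp

namespace K745.Imm

variable {S : Scheme.{u}}

theorem repWith_of_dvr {F : Sp S} {T : Over S} [IsLocallyNoetherian T.left] (q : F ⟶ (yon S).obj T) [Mono q]
    (hr : Representable q) (hlft : LocP @LocallyOfFiniteType q) (hqc : IsQuasiCompactMor q)
    (hb : ∀ (A : Type u) [CommRing A] [IsDomain A] [IsDiscreteValuationRing A] (K : Type u) [Field K] [Algebra A K]
      [IsFractionRing A K] (sA : Spec (CommRingCat.of A) ⟶ S) (g : Over.mk sA ⟶ T),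
      (∃ s : (yon S).obj (Over.mk (Spec.map (CommRingCat.ofHom (algebraMap A K)) ≫ sA)) ⟶ F,
        s ≫ q = (yon S).map ((Over.homMk (Spec.map (CommRingCat.ofHom (algebraMap A K))) rfl :
          Over.mk ((Spec.map (CommRingCat.ofHom (algebraMap A K))) ≫ sA) ⟶ Over.mk sA) ≫ g)) →
      (∃ s : (yon S).obj (Over.mk (Spec.map (CommRingCat.ofHom (IsLocalRing.residue A)) ≫ sA)) ⟶ F,
        s ≫ q = (yon S).map ((Over.homMk (Spec.map (CommRingCat.ofHom (IsLocalRing.residue A))) rfl :
          Over.mk ((Spec.map (CommRingCat.ofHom (IsLocalRing.residue A))) ≫ sA) ⟶ Over.mk sA) ≫ g)) →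
      ∃ s : (yon S).obj (Over.mk sA) ⟶ F, s ≫ q = (yon S).map g) :
    RepWith (@IsImmersion ⊓ @QuasiCompact) q := by
  obtain ⟨X, j, fst, sq⟩ := hr (𝟙 _)
  have hiso : IsIso fst := sq.isIso_fst_of_isIso
  have hq : q = inv fst ≫ (yon S).map j := by
    rw [IsIso.eq_inv_comp]
    have := sq.w
    rw [Category.comp_id] at this
    exact this
  have hj1 : (yon S).map j = fst ≫ q := by rw [hq, IsIso.hom_inv_id_assoc]
  have hjm : Mono ((yon S).map j) := by rw [hj1]; infer_instance
  have hjm' : Mono j := (yon S).mono_of_mono_map hjm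
  have hjm2 : Mono j.left := by
    have := (Over.mono_left_of_mono j)
    exact this
  have hqc' : QuasiCompact j.left :=
    (K596.QC.repWith_of_isQuasiCompactMor hr hqc).2 (𝟙 _) fst j sq
  have hlft' : LocallyOfFiniteType j.left := by
    refine hlft fst (𝟙 _) j ?_ (MorphismProperty.id_mem _ _) sq.w
    exact K598.RepKit.repWith_of_isIso _
  have himm : IsImmersion j.left := by
    refine K745.DvrImm.isImmersion_of_mono_of_dvr j.left ?_
    intro A _ _ _ g hK hk
    obtain ⟨σ, hσ⟩ := hK
    obtain ⟨τ, hτ⟩ := hk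
    let sA : Spec (CommRingCat.of A) ⟶ S := g ≫ T.hom
    let g' : Over.mk sA ⟶ T := Over.homMk g rfl
    have lift : ∀ {Z : Scheme.{u}} (z : Z ⟶ Spec (CommRingCat.of A)) (σ : Z ⟶ X.left) (hσ : σ ≫ j.left = z ≫ g),
        ∃ s : (yon S).obj (Over.mk (z ≫ sA)) ⟶ F,
          s ≫ q = (yon S).map ((Over.homMk z rfl : Over.mk (z ≫ sA) ⟶ Over.mk sA) ≫ g') := by
      intro Z z σ hσ
      let σ' : Over.mk (z ≫ sA) ⟶ X := Over.homMk σ (by
        have := Over.w j
        change σ ≫ X.hom = z ≫ g ≫ T.hom
        rw [← this, reassoc_of% hσ])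
      refine ⟨(yon S).map σ' ≫ fst, ?_⟩
      rw [Category.assoc, ← hj1, ← Functor.map_comp]
      congr 1
      ext1
      exact hσ
    obtain ⟨s, hs⟩ := hb A (FractionRing A) sA g' (lift _ σ hσ) (lift _ τ hτ)
    obtain ⟨s', hs'⟩ := (yon S).map_surjective (s ≫ inv fst)
    refine ⟨s'.left, ?_⟩
    have h1 : s' ≫ j = g' := by
      apply (yon S).map_injective
      rw [Functor.map_comp, hs', hj1, Category.assoc, IsIso.inv_hom_id_assoc, hs]
    exact congrArg (fun k => k.left) h1
  rw [hq]
  have : (RepWith (S := S) (@IsImmersion ⊓ @QuasiCompact)).RespectsIso := inferInstance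
  rw [MorphismProperty.cancel_left_of_respectsIso (RepWith (S := S) (@IsImmersion ⊓ @QuasiCompact))]
  exact (repWith_yon_map_iff _ _).2 ⟨himm, hqc'⟩

end K745.Imm
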