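import Groth.Agent.AlgSt.K745.Imm
import Groth.Agent.AlgSt.K745.Affine
import Groth.Agent.AlgSt.K745.Inst
import Groth.Agent.AlgSt.K745.QcNoeth
import Groth.Agent.S15357
import Groth.Agent.S10538

/-!
S15356 relative to the representability of separated locally quasi-finite morphisms (S10260).
-/

set_option autoImplicit false
set_option backward.isDefEq.respectTransparency false
set_option backward.isDefEq.respectTransparency.types false

universe u

open CategoryTheory CategoryTheory.Limits AlgebraicGeometry Opposite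

namespace K745.ImmStack

theorem result (S : Scheme.{u})
    (h260 : ∀ {X Y : AlgSp.Space S} (f : X ⟶ Y),
      AlgSp.LocP (@LocallyQuasiFinite ⊓ @LocallyOfFiniteType) f.hom → AlgSp.IsSeparatedMor f.hom →
      AlgSp.Representable f.hom)

    (𝒳 𝒴 : AlgSt.Cat S) (h𝒳 : AlgSt.IsAlgStack Scheme.fppfPrecoverage 𝒳)
    (h𝒴 : AlgSt.IsAlgStack Scheme.fppfPrecoverage 𝒴)
    (hnoeth : AlgSt.SmoothLocally (fun X => IsLocallyNoetherian X) 𝒳) (f : 𝒴 ⥤ᵇ 𝒳)
    (hrep : AlgSt.RepByAlgSp1 f) (hlfp : AlgSt.RepByAlgSpWith (AlgSp.LocP @LocallyOfFinitePresentation) f)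
    (ha : AlgSt.IsMono f)
    (hb : ∀ (A : Type u) [CommRing A] [IsDomain A] [IsDiscreteValuationRing A] (K : Type u) [Field K] [Algebra A K]
      [IsFractionRing A K] (sA : Spec (CommRingCat.of A) ⟶ S) (a : FibCat.overCat (Over.mk sA) ⥤ᵇ 𝒳),
      (∃ yK : FibCat.overCat (Over.mk (Spec.map (CommRingCat.ofHom (algebraMap A K)) ≫ sA)) ⥤ᵇ 𝒴,
          Nonempty (BasedFunctor.comp yK f ≅ BasedFunctor.comp (AlgSt.overMap (Over.homMk (Spec.map (CommRingCat.ofHom (algebraMap A K))) rfl : Over.mk ((Spec.map (CommRingCat.ofHom (algebraMap A K))) ≫ sA) ⟶ Over.mk sA)) a)) →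
      (∃ yk : FibCat.overCat (Over.mk (Spec.map (CommRingCat.ofHom (IsLocalRing.residue A)) ≫ sA)) ⥤ᵇ 𝒴,
          Nonempty (BasedFunctor.comp yk f ≅ BasedFunctor.comp (AlgSt.overMap (Over.homMk (Spec.map (CommRingCat.ofHom (IsLocalRing.residue A))) rfl : Over.mk ((Spec.map (CommRingCat.ofHom (IsLocalRing.residue A))) ≫ sA) ⟶ Over.mk sA)) a)) →
      ∃ y : FibCat.overCat (Over.mk sA) ⥤ᵇ 𝒴, Nonempty (BasedFunctor.comp y f ≅ a))
    (hc : ∀ (A : Type u) [CommRing A] [IsDomain A] (sA : Spec (CommRingCat.of A) ⟶ S)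
      (a : FibCat.overCat (Over.mk sA) ⥤ᵇ 𝒳) (D : Set ↥(Spec (CommRingCat.of A))), Dense D →
      (∀ p ∈ D, ∃ yp : FibCat.overCat (Over.mk ((Spec (CommRingCat.of A)).fromSpecResidueField p ≫ sA)) ⥤ᵇ 𝒴,
          Nonempty (BasedFunctor.comp yp f ≅ BasedFunctor.comp (AlgSt.overMap (Over.homMk ((Spec (CommRingCat.of A)).fromSpecResidueField p) rfl : Over.mk (((Spec (CommRingCat.of A)).fromSpecResidueField p) ≫ sA) ⟶ Over.mk sA)) a)) →
      ∃ U : (Spec (CommRingCat.of A)).Opens, (U : Set ↥(Spec (CommRingCat.of A))).Nonempty ∧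
        ∃ yU : FibCat.overCat (Over.mk (U.ι ≫ sA)) ⥤ᵇ 𝒴,
          Nonempty (BasedFunctor.comp yU f ≅ BasedFunctor.comp (AlgSt.overMap (Over.homMk (U.ι) rfl : Over.mk ((U.ι) ≫ sA) ⟶ Over.mk sA)) a)) :
    AlgSt.RepByAlgSpWith (AlgSp.RepWith (@IsImmersion ⊓ @QuasiCompact)) f := by
  have hqc := Groth.Agent.S15357.result S 𝒳 𝒴 h𝒳 h𝒴 hnoeth f hrep hlfp ha hc
  obtain ⟨W, x, hs, hsurj⟩ := h𝒳.atlas
  have hWn : IsLocallyNoetherian W.left := hnoeth W x hs
  refine K745.Refine.repByAlgSpWith_of_affine_opens hs hsurj hrep _ ?_ (Groth.Agent.S10538.result S) fun T => ?_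
  · intro F F' U U' a g p₁ p₂ _ _ sq hp
    exact MorphismProperty.of_isPullback sq hp
  have hTa : IsAffine (Over.mk (T.1.ι ≫ W.hom)).left := T.2
  have hTn : IsLocallyNoetherian (Over.mk (T.1.ι ≫ W.hom)).left := inferInstanceAs (IsLocallyNoetherian T.1)
  let y := BasedFunctor.comp (AlgSt.overMap (K745.Refine.opn W T.1)) x
  obtain ⟨F, e, he, hm⟩ := ha _ y
  have hm' : Mono (K745.Lift.q e) := hm
  have := K745.Inst.respectsIso_locP (S := S) @LocallyOfFinitePresentation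
  have := K745.Inst.respectsIso_isQuasiCompactMor (S := S)
  have h1 : AlgSp.LocP @LocallyOfFinitePresentation (K745.Lift.q e) :=
    ((show K735.Rep.RepOver (AlgSp.LocP @LocallyOfFinitePresentation) (FibCat.fpFst y f) from hlfp _ y).of_rep e he).2
  have h2 : AlgSp.IsQuasiCompactMor (K745.Lift.q e) :=
    ((show K735.Rep.RepOver AlgSp.IsQuasiCompactMor (FibCat.fpFst y f) from hqc _ y).of_rep e he).2
  have h3 : AlgSp.LocP @LocallyOfFiniteType (K745.Lift.q e) :=
    K597.locP_mono (fun _ _ f hf => by have : LocallyOfFinitePresentation f := hf; infer_instance) h1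
  have h4 : AlgSp.Representable (K745.Lift.q e) :=
    h260 (X := F) (Y := ⟨_, AlgSp.IsAlgSpace.yon_obj _⟩) (ObjectProperty.homMk (K745.Lift.q e))
      (K745.MonoLqf.locP_lqf_of_mono (K745.Lift.q e) h3) (K745.MonoLqf.isSeparatedMor_of_mono (K745.Lift.q e))
  refine ⟨F, e, he, K745.Imm.repWith_of_dvr (K745.Lift.q e) h4 h3 h2 ?_⟩
  intro A _ _ _ K _ _ _ sA g hK hk
  have h5 := hb A K sA (BasedFunctor.comp (AlgSt.overMap g) y)
    ((K745.Lift.exists_lift_comp_iff e he _ g).2 hK) ((K745.Lift.exists_lift_comp_iff e he _ g).2 hk)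
  exact (K745.Lift.exists_lift_iff e he g).1 h5

end K745.ImmStack
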