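import Groth.Agent.AlgSt.K739.Diag
import Groth.Agent.AlgSt.K735.Fp
import Groth.Agent.AlgSp.K613.Diag
import Groth.Agent.AlgSp.K609.Points
import Groth.Agent.S10262

/-!
The locus where an automorphism of an object of a category fibred in groupoids is the identity.
-/

set_option autoImplicit false
set_option backward.isDefEq.respectTransparency false
set_option backward.isDefEq.respectTransparency.types false

universe w v u

open CategoryTheory CategoryTheory.Limits AlgebraicGeometry Opposite AlgSp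

namespace K745.Locus

open K739.Isom

variable {S : Scheme.{u}}

theorem ofSection_eq_iff {F : Sp S} {T R : Over S} (x x' : F.obj.obj (op T)) (r : R ⟶ T) :
    (yon S).map r ≫ K609.Points.ofSection x = (yon S).map r ≫ K609.Points.ofSection x' ↔
      F.obj.map r.op x = F.obj.map r.op x' := by
  have key : ∀ (x : F.obj.obj (op T)) {R' : Over S} (φ : R' ⟶ R),
      ((yon S).map r ≫ K609.Points.ofSection x).hom.app (op R') ⟨φ⟩ = F.obj.map φ.op (F.obj.map r.op x) := by
    intro x R' φ
    change (K609.Points.ofSection x).hom.app (op R') ⟨φ ≫ r⟩ = _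
    rw [K609.Points.ofSection_app, op_comp, Functor.map_comp_apply]
  constructor
  · intro h
    have h1 := congrArg (fun k : (yon S).obj R ⟶ F => k.hom.app (op R) ⟨𝟙 R⟩) h
    simp only [key] at h1
    simpa using h1
  · intro h
    apply ObjectProperty.hom_ext
    apply NatTrans.ext
    funext R'
    ext φ
    exact (key x φ.down).trans ((congrArg _ h).trans (key x' φ.down).symm)

variable {𝒴 : BasedCategory.{u, w} (Over S)}

theorem exists_locus (h𝒴 : FibCat.IsFibGrpd 𝒴.p) {Pr : MorphismProperty (Sp S)} {Q : MorphismProperty Scheme.{u}}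
    [Q.IsStableUnderBaseChange]
    (hPr : ∀ (F : Space S) (T : Over S) (π : F.obj ⟶ (yon S).obj T), Pr π → RepWith Q (pullback.diagonal π))
    (hΔ : AlgSt.RepByAlgSpWith Pr (FibCat.diag (FibCat.toSelf 𝒴))) {T : Over S} (y : FibCat.overCat T ⥤ᵇ 𝒴)
    (c : y.obj (pt (𝟙 T)) ⟶ y.obj (pt (𝟙 T))) (hc : 𝒴.p.IsHomLift (𝟙 T) c) :
    ∃ (E : Over S) (e : E ⟶ T), Q e.left ∧ ∀ (R : Over S) (r : R ⟶ T),
      (y.map (arr r (Category.comp_id r)) ≫ c = y.map (arr r (Category.comp_id r)) ↔ ∃ k : R ⟶ E, k ≫ e = r) := by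
  have hS : FibCat.IsFibGrpd (FibCat.selfOver (Over S)).p := K735.Fp.isFibGrpd_selfOver
  have h1 := (K739.Diag.repByAlgSpWith_diag_iff Pr (FibCat.toSelf 𝒴) h𝒴 hS).1 hΔ T y y (Iso.refl _)
  obtain ⟨F, α, hP⟩ := h1
  let G := psh (FibCat.toSelf 𝒴) y y (Iso.refl _) h𝒴 hS
  have hm : ∀ {X : 𝒴.obj} {R : Over S} (c : X ⟶ X), 𝒴.p.IsHomLift (𝟙 R) c → 𝒴.p.map c = 𝟙 _ := by
    intro X R c hc
    have h2 := IsHomLift.fac' 𝒴.p (𝟙 R) c
    rw [h2]
    simp
  let s₀ : Sec (FibCat.toSelf 𝒴) y y (Iso.refl _) T :=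
    { u := 𝟙 T
      ψ := 𝟙 _
      lift := IsHomLift.id (y.w_obj (pt (𝟙 T)))
      comp := hm _ (IsHomLift.id (y.w_obj (pt (𝟙 T)))) }
  let s₁ : Sec (FibCat.toSelf 𝒴) y y (Iso.refl _) T :=
    { u := 𝟙 T
      ψ := c
      lift := hc
      comp := hm c hc }
  let a₀ : F.obj.obj.obj (op T) := α.inv.app (op T) s₀
  let a₁ : F.obj.obj.obj (op T) := α.inv.app (op T) s₁
  let π : F.obj ⟶ (yon S).obj T := ObjectProperty.homMk (α.hom ≫ toBase (FibCat.toSelf 𝒴) y y (Iso.refl _) h𝒴 hS)
  have hπ : ∀ (R : Over S) (x : G.obj (op R)), π.hom.app (op R) (α.inv.app (op R) x) = ⟨Sec.u x⟩ := by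
    intro R x
    change (toBase (FibCat.toSelf 𝒴) y y (Iso.refl _) h𝒴 hS).app (op R) (α.hom.app (op R) (α.inv.app (op R) x)) = _
    have h2 : α.hom.app (op R) (α.inv.app (op R) x) = x := by
      have h3 := congrArg (fun k => k.app (op R) x) α.inv_hom_id
      exact h3
    rw [h2]
    rfl
  have hab : K609.Points.ofSection a₀ ≫ π = K609.Points.ofSection a₁ ≫ π := by
    apply ObjectProperty.hom_ext
    apply NatTrans.ext
    funext R'
    ext φ
    change π.hom.app R' (F.obj.obj.map φ.down.op a₀) = π.hom.app R' (F.obj.obj.map φ.down.op a₁)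
    have h4 : ∀ a : F.obj.obj.obj (op T), π.hom.app R' (F.obj.obj.map φ.down.op a) =
        ((yon S).obj T).obj.map φ.down.op (π.hom.app (op T) a) := fun a => NatTrans.naturality_apply π.hom φ.down.op a
    rw [h4, h4, hπ T s₀, hπ T s₁]
  obtain ⟨E, e, he, hQ⟩ := (K613.Diag.repWith_diagonal_iff Q π).1 (hPr F T π hP) T _ _ hab
  refine ⟨E, e, hQ, fun R r => ?_⟩
  let s' : Sec (FibCat.toSelf 𝒴) y y (Iso.refl _) R :=
    { u := r
      ψ := 𝟙 _
      lift := IsHomLift.id (y.w_obj (pt r))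
      comp := hm _ (IsHomLift.id (y.w_obj (pt r))) }
  have h0 : G.map r.op s₀ = s' := by
    refine (map_eq_iff h𝒴 hS r s₀ s').2 ⟨Category.comp_id r, ?_⟩
    exact (Category.comp_id _).trans (Category.id_comp _).symm
  have h2 : (y.map (arr r (Category.comp_id r)) ≫ c = y.map (arr r (Category.comp_id r))) ↔ G.map r.op s₁ = s' := by
    rw [map_eq_iff h𝒴 hS r s₁ s']
    constructor
    · intro h
      exact ⟨Category.comp_id r, h.trans (Category.id_comp _).symm⟩
    · rintro ⟨_, h⟩
      exact h.trans (Category.id_comp _)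
  have h3 : G.map r.op s₁ = s' ↔ F.obj.obj.map r.op a₀ = F.obj.obj.map r.op a₁ := by
    have h5 : ∀ s : G.obj (op T), F.obj.obj.map r.op (α.inv.app (op T) s) = α.inv.app (op R) (G.map r.op s) :=
      fun s => (NatTrans.naturality_apply α.inv r.op s).symm
    rw [h5 s₀, h5 s₁, h0]
    constructor
    · intro h
      rw [h]
    · intro h
      have h6 := congrArg (α.hom.app (op R)) h
      have h7 : ∀ x : G.obj (op R), α.hom.app (op R) (α.inv.app (op R) x) = x := fun x =>
        congrArg (fun k => k.app (op R) x) α.inv_hom_id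
      rw [h7, h7] at h6
      exact h6.symm
  rw [h2, h3, ← ofSection_eq_iff]
  constructor
  · intro h
    exact (he.lift R r h).exists
  · rintro ⟨k, rfl⟩
    rw [Functor.map_comp, Category.assoc, Category.assoc, he.w]

end K745.Locus
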