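import Groth.Agent.AlgSt.K745.SpMap
import Groth.Agent.AlgSt.K740.SpDM

/-!
# Charts of `[X/G]` for sheaf torsors by schemes (helper745)

`K745.SpAtlas.exists_chart`: `G ⟶ B` flat and lfp => a scheme chart `U ⟶ [X/G]`, representable by algebraic spaces, flat,
lfp and surjective; `exists_smooth_chart`: smooth if `G ⟶ B` is smooth (`h104` is the statement of S10104).
-/

set_option autoImplicit false
set_option backward.isDefEq.respectTransparency false
set_option backward.isDefEq.respectTransparency.types false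

universe w v u

open CategoryTheory CategoryTheory.Limits MonoidalCategory CartesianMonoidalCategory MonObj GrpObj AlgebraicGeometry
open AlgSt AlgSp Opposite

namespace K745.SpAtlas

variable {S : Scheme.{u}} {B : AlgSp.Sp S} {G : Over B} [GrpObj G] {X : Over B} {aX : AlgSp.GAction G X}

theorem exists_chart_of
    (h104 : ∀ (F : Sp S) (U : Space S) (p : U.obj ⟶ F),
      RepBySpWith (IsSurjectiveMor ⊓ LocP @Flat ⊓ LocP @LocallyOfFinitePresentation) p.hom → IsAlgSpace F)
    (hB : IsAlgSpace B) (hG : IsAlgSpace G.left) (hX : IsAlgSpace X.left) {Q : MorphismProperty (Sp S)}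
    (hQ : K734.Rep.Nice Q) (hQ' : ∀ ⦃F F' : Sp S⦄ (a : F ⟶ F'), LocP @Smooth a → Q a) (h : Q G.hom) :
    ∃ (U : Over S) (x : FibCat.overCat U ⥤ᵇ SpQuotSt Scheme.fppfPrecoverage G aX),
      RepByAlgSpWith Q x ∧ RepByAlgSpWith IsSurjectiveMor x := by
  obtain ⟨U, x, h1, -, h3⟩ := K740.SpDM.exists_chart_ofSp hX
  have hU : FibCat.IsFibGrpd (FibCat.overCat U).p := K735.Fp.isFibGrpd_overCat U
  have hXf : FibCat.IsFibGrpd (ofSp X.left).p := inferInstance
  have h1' : RepByAlgSpWith Q x := fun V y => by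
    obtain ⟨F, e, he, hp⟩ := h1 V y
    exact ⟨F, e, he, hQ' _ hp⟩
  refine ⟨U, BasedFunctor.comp x (spQuotMap Scheme.fppfPrecoverage G aX), ?_, ?_⟩
  · exact hQ.repByAlgSpWith_comp hU hXf h1' (SpMap.repByAlgSpWith_spQuotMap h104 hB hG hQ h)
  · exact K734.Rep.nice_surj.repByAlgSpWith_comp hU hXf h3
      (SpMap.repByAlgSpWith_spQuotMap h104 hB hG K734.Rep.nice_surj SpMap.surjective_G)

theorem locP_inf_iff {P Q : MorphismProperty Scheme.{u}} {F F' : Sp S} (a : F ⟶ F') :
    LocP (P ⊓ Q) a ↔ (LocP P ⊓ LocP Q) a :=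
  ⟨fun h => ⟨fun U V b c g hb hc w => (h b c g hb hc w).1, fun U V b c g hb hc w => (h b c g hb hc w).2⟩,
    fun h U V b c g hb hc w => ⟨h.1 b c g hb hc w, h.2 b c g hb hc w⟩⟩

theorem nice_flat_lfp : K734.Rep.Nice (S := S) (LocP (@Flat ⊓ @LocallyOfFinitePresentation)) :=
  (K734.Rep.nice_flat.inf K734.Rep.nice_lfp).congr (fun _ _ _ _ a => (locP_inf_iff a).symm)

theorem exists_chart
    (h104 : ∀ (F : Sp S) (U : Space S) (p : U.obj ⟶ F),
      RepBySpWith (IsSurjectiveMor ⊓ LocP @Flat ⊓ LocP @LocallyOfFinitePresentation) p.hom → IsAlgSpace F)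
    (hB : IsAlgSpace B) (hG : IsAlgSpace G.left) (hX : IsAlgSpace X.left)
    (h : LocP (@Flat ⊓ @LocallyOfFinitePresentation) G.hom) :
    ∃ (U : Over S) (x : FibCat.overCat U ⥤ᵇ SpQuotSt Scheme.fppfPrecoverage G aX),
      RepByAlgSpWith (LocP (@Flat ⊓ @LocallyOfFinitePresentation)) x ∧ RepByAlgSpWith IsSurjectiveMor x :=
  exists_chart_of h104 hB hG hX nice_flat_lfp (fun F F' a ha U V b c g hb hc w => by
    have : Smooth g.left := ha b c g hb hc w
    exact ⟨inferInstance, inferInstance⟩) h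

theorem exists_smooth_chart
    (h104 : ∀ (F : Sp S) (U : Space S) (p : U.obj ⟶ F),
      RepBySpWith (IsSurjectiveMor ⊓ LocP @Flat ⊓ LocP @LocallyOfFinitePresentation) p.hom → IsAlgSpace F)
    (hB : IsAlgSpace B) (hG : IsAlgSpace G.left) (hX : IsAlgSpace X.left) (h : LocP @Smooth G.hom) :
    HasAtlas (LocP @Smooth) (SpQuotSt Scheme.fppfPrecoverage G aX) :=
  exists_chart_of h104 hB hG hX K734.Rep.nice_smooth (fun F F' a ha => ha) h

end K745.SpAtlas
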