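import Groth.Prelude.Def_AlgSt2
import Groth.Agent.AlgSt.K744.IsomFp

/-!
# Fibre products of `(Sch/U) ⟶ 𝒴` with a sheaf `ofSp X ⟶ 𝒴`: representation by a sheaf (helper745)
-/

set_option autoImplicit false
set_option backward.isDefEq.respectTransparency false
set_option backward.isDefEq.respectTransparency.types false

universe w v₃ u₃ v u

open CategoryTheory CategoryTheory.Limits Opposite AlgebraicGeometry AlgSt

namespace K745.SpRep

variable {S : Scheme.{u}} {𝒴 : BasedCategory.{v₃, u₃} (Over S)} {U : Over S}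

/-- the arrow of `ofSp X` given by an equality of sections over the same scheme -/
def eqHom {X : AlgSp.Sp S} {T : Over S} {x x' : X.obj.obj (op T)} (h : x = x') :
    (⟨T, x⟩ : (ofSp X).obj) ⟶ ⟨T, x'⟩ := ⟨𝟙 T, by subst h; simp⟩

section

variable (y : FibCat.overCat U ⥤ᵇ 𝒴) {X P : AlgSp.Sp S} (f : ofSp X ⥤ᵇ 𝒴) (φ : P ⟶ X)
  (π : P ⟶ (AlgSp.yon S).obj U)

/-- the object of `𝒴` attached to `y : (Sch/U) ⟶ 𝒴` -/
abbrev one : 𝒴.obj := y.obj (Over.mk (𝟙 U))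

/-- the arrow to the object of `𝒴` attached to `y` -/
abbrev yTo (t : Over U) : y.obj t ⟶ one y := y.map (Over.homMk t.hom (Category.comp_id _) : t ⟶ Over.mk (𝟙 U))

instance yTo_isHomLift (t : Over U) : 𝒴.p.IsHomLift t.hom (yTo y t) := by
  have : (FibCat.overCat U).p.IsHomLift t.hom (Over.homMk t.hom (Category.comp_id _) : t ⟶ Over.mk (𝟙 U)) :=
    IsHomLift.map (FibCat.overCat U).p (Over.homMk t.hom (Category.comp_id _) : t ⟶ Over.mk (𝟙 U))
  infer_instance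

theorem map_yTo {s t : Over U} (g : s ⟶ t) : y.map g ≫ yTo y t = yTo y s := by
  change y.map g ≫ y.map _ = y.map _
  rw [← Functor.map_comp]
  congr 1
  apply Over.OverMorphism.ext
  exact Over.w g

/-- the functor `ofSp P ⟶ (Sch/U)` attached to `π` -/
abbrev F1 : ofSp P ⥤ᵇ FibCat.overCat U := BasedFunctor.comp (ofSpMap π) (toOverCat U)

/-- the point of `U` under a section -/
abbrev πp {T : Over S} (p : P.obj.obj (op T)) : T ⟶ U := (π.hom.app (op T) p).down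

/-- A sheaf `P` with maps to `U` and `X` and arrows `τ` representing the arrows `f(x) ⟶ y(1)`. -/
structure Data where
  /-- the universal arrow -/
  τ : ∀ (T : Over S) (p : P.obj.obj (op T)), f.obj ⟨T, φ.hom.app (op T) p⟩ ⟶ one y
  lift : ∀ (T : Over S) (p : P.obj.obj (op T)), 𝒴.p.IsHomLift (πp π p) (τ T p)
  nat : ∀ {a b : (ofSp P).obj} (g : a ⟶ b), f.map ((ofSpMap φ).map g) ≫ τ b.base b.sec = τ a.base a.sec
  ex : ∀ (T : Over S) (x : X.obj.obj (op T)) (ρ : f.obj ⟨T, x⟩ ⟶ one y),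
    ∃ (p : P.obj.obj (op T)) (h : φ.hom.app _ p = x), f.map (eqHom h) ≫ ρ = τ T p
  inj : ∀ (T : Over S) (p p' : P.obj.obj (op T)) (h : φ.hom.app _ p = φ.hom.app _ p'),
    f.map (eqHom h) ≫ τ T p' = τ T p → p = p'

variable {y f φ π}

theorem exists_isEquivOver (h𝒴 : FibCat.IsFibGrpd 𝒴.p) (D : Data y f φ π) :
    ∃ e : ofSp P ⥤ᵇ FibCat.fp y f, FibCat.IsEquivOver e ∧
      BasedFunctor.comp e (FibCat.fpFst y f) = F1 π ∧ BasedFunctor.comp e (FibCat.fpSnd y f) = ofSpMap φ := by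
  have hex : ∀ a : (ofSp P).obj, ∃ θ : y.obj (Over.mk (πp π a.sec)) ≅ f.obj ((ofSpMap φ).obj a),
      𝒴.p.IsHomLift (𝟙 a.base) θ.hom ∧ θ.hom ≫ D.τ a.base a.sec = yTo y (Over.mk (πp π a.sec)) := by
    rintro ⟨T, p⟩
    have i0 := D.lift T p
    have i1 : 𝒴.p.IsStronglyCartesian (πp π p) (D.τ T p) := K744.IsomFp.isStrCart h𝒴 _ _ i0
    have i2 : 𝒴.p.IsStronglyCartesian (πp π p) (yTo y (Over.mk (πp π p))) :=
      K744.IsomFp.isStrCart h𝒴 _ _ (yTo_isHomLift y (Over.mk (πp π p)))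
    exact ⟨Functor.IsCartesian.domainUniqueUpToIso 𝒴.p (πp π p) (D.τ T p) (yTo y (Over.mk (πp π p))),
      inferInstance, by simp⟩
  choose θ hθ1 hθ2 using hex
  have hbase : ∀ {a b : (ofSp P).obj} (g : a ⟶ b), 𝒴.p.IsHomLift g.hom (y.map ((F1 π).map g)) := by
    intro a b g
    have h1 : (FibCat.overCat U).p.IsHomLift g.hom ((F1 π).map g) :=
      IsHomLift.map (FibCat.overCat U).p ((F1 π).map g)
    infer_instance
  have hbase2 : ∀ {a b : (ofSp P).obj} (g : a ⟶ b), 𝒴.p.IsHomLift g.hom (f.map ((ofSpMap φ).map g)) := by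
    intro a b g
    have h1 : (ofSp X).p.IsHomLift g.hom ((ofSpMap φ).map g) :=
      IsHomLift.map (ofSp X).p ((ofSpMap φ).map g)
    infer_instance
  have hnat : ∀ {a b : (ofSp P).obj} (g : a ⟶ b), y.map ((F1 π).map g) ≫ (θ b).hom =
      (θ a).hom ≫ f.map ((ofSpMap φ).map g) := by
    intro a b g
    have i1 := hθ1 a
    have i2 := hθ1 b
    have i3 := hbase g
    have i4 := hbase2 g
    apply K744.IsomFp.hom_ext_of_comp h𝒴 (D.τ b.base b.sec)
    · have a1 : 𝒴.p.IsHomLift g.hom (y.map ((F1 π).map g) ≫ (θ b).hom) := inferInstance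
      have a2 : 𝒴.p.IsHomLift g.hom ((θ a).hom ≫ f.map ((ofSpMap φ).map g)) := inferInstance
      rw [IsHomLift.fac' 𝒴.p g.hom (y.map ((F1 π).map g) ≫ (θ b).hom),
        IsHomLift.fac' 𝒴.p g.hom ((θ a).hom ≫ f.map ((ofSpMap φ).map g))]
    · rw [Category.assoc, Category.assoc, hθ2, D.nat, hθ2]
      exact map_yTo y ((F1 π).map g)
  let ι : BasedFunctor.comp (F1 π) y ≅ BasedFunctor.comp (ofSpMap φ) f :=
    BasedNatIso.mkNatIso (NatIso.ofComponents (fun a => θ a) (fun g => hnat g)) (fun a => hθ1 a)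
  refine ⟨FibCat.fpLift (F1 π) (ofSpMap φ) ι, ?_, rfl, rfl⟩
  apply K744.Fib.isEquivOver_of
  · -- full
    refine ⟨fun {a b} g => ?_⟩
    obtain ⟨T, p⟩ := a
    obtain ⟨T', p'⟩ := b
    let g2 : ((ofSpMap φ).obj ⟨T, p⟩ : (ofSp X).obj) ⟶ (ofSpMap φ).obj ⟨T', p'⟩ := g.hom.snd
    let g1 : (F1 π).obj ⟨T, p⟩ ⟶ (F1 π).obj ⟨T', p'⟩ := g.hom.fst
    have hw : y.map g1 ≫ (θ ⟨T', p'⟩).hom = (θ ⟨T, p⟩).hom ≫ f.map g2 := g.hom.w
    have hg12 : g1.left = g2.hom := by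
      have hs : (ofSp X).p.IsHomLift (show T ⟶ T' from g1.left) g2 := FibCat.fp_isHomLift_snd y f g
      exact IsHomLift.eq_of_isHomLift (ofSp X).p (a := ((ofSpMap φ).obj ⟨T, p⟩ : (ofSp X).obj))
        (b := (ofSpMap φ).obj ⟨T', p'⟩) (show T ⟶ T' from g1.left) g2
    let h : T ⟶ T' := g2.hom
    let q : P.obj.obj (op T) := P.obj.map h.op p'
    let k : (⟨T, q⟩ : (ofSp P).obj) ⟶ ⟨T', p'⟩ := ⟨h, rfl⟩
    have hq : φ.hom.app _ p = φ.hom.app _ q := by
      have := g2.map_sec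
      change X.obj.map h.op (φ.hom.app _ p') = φ.hom.app _ p at this
      rw [← this]
      exact (NatTrans.naturality_apply φ.hom h.op p').symm
    have key : p = q := by
      refine D.inj T p q hq ?_
      rw [← D.nat k, ← Category.assoc, ← Functor.map_comp]
      have e1 : (eqHom hq : ((ofSpMap φ).obj ⟨T, p⟩ : (ofSp X).obj) ⟶ (ofSpMap φ).obj ⟨T, q⟩) ≫
          (ofSpMap φ).map k = g2 := by
        apply Stk.EltObj.hom_ext
        exact Category.id_comp _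
      have e1' : f.map ((eqHom hq : ((ofSpMap φ).obj ⟨T, p⟩ : (ofSp X).obj) ⟶ (ofSpMap φ).obj ⟨T, q⟩) ≫
          (ofSpMap φ).map k) = f.map g2 := congrArg _ e1
      erw [e1']
      have := hθ2 ⟨T, p⟩
      have h3 := hθ2 ⟨T', p'⟩
      change (θ ⟨T', p'⟩).hom ≫ D.τ T' p' = _ at h3
      change f.map g2 ≫ D.τ T' p' = D.τ T p
      rw [← cancel_epi (θ ⟨T, p⟩).hom]
      erw [hθ2, ← Category.assoc, ← hw, Category.assoc, h3]
      exact map_yTo y g1
    have key' : P.obj.map h.op p' = p := key.symm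
    refine ⟨⟨h, key'⟩, ?_⟩
    apply ObjectProperty.hom_ext
    apply CategoricalPullback.hom_ext
    · apply Over.OverMorphism.ext
      exact hg12.symm
    · rfl
  · refine ⟨fun {a b g g'} h => ?_⟩
    have h1 : (ofSpMap φ).map g = (ofSpMap φ).map g' := congrArg (fun z => z.hom.snd) h
    have h2 : ((ofSpMap φ).map g).hom = ((ofSpMap φ).map g').hom := by rw [h1]
    exact Stk.EltObj.hom_ext h2
  · rintro ⟨⟨t, x, θ₀⟩, hθ₀⟩
    have hθ₀' : 𝒴.p.IsHomLift (𝟙 t.left) θ₀.hom := hθ₀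
    obtain ⟨T, ⟨⟨⟩⟩, t⟩ := t
    obtain ⟨T', x⟩ := x
    have hT : T' = T := by
      have h1 : 𝒴.p.obj (f.obj ⟨T', x⟩) = T := IsHomLift.codomain_eq 𝒴.p (𝟙 T) θ₀.hom
      exact (f.w_obj ⟨T', x⟩).symm.trans h1
    subst hT
    change T' ⟶ U at t
    change y.obj (Over.mk t) ≅ f.obj ⟨T', x⟩ at θ₀
    obtain ⟨p, h1, h2⟩ := D.ex T' x (θ₀.inv ≫ yTo y (Over.mk t))
    subst h1
    have e0 : (eqHom (rfl : φ.hom.app (op T') p = φ.hom.app (op T') p) :
      (⟨T', φ.hom.app (op T') p⟩ : (ofSp X).obj) ⟶ ⟨T', φ.hom.app (op T') p⟩) = 𝟙 _ := rfl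
    rw [e0, f.map_id, Category.id_comp] at h2
    have i3 : 𝒴.p.IsHomLift (𝟙 T') θ₀.inv := inferInstance
    have i1 : 𝒴.p.IsHomLift t (D.τ T' p) := by
      rw [← h2]
      have := yTo_isHomLift y (Over.mk t)
      change 𝒴.p.IsHomLift t (yTo y (Over.mk t)) at this
      infer_instance
    have i2 := D.lift T' p
    have ht : πp π p = t := by
      have a1 := IsHomLift.fac' 𝒴.p (πp π p) (D.τ T' p)
      have a2 := IsHomLift.fac' 𝒴.p t (D.τ T' p)
      rw [a1] at a2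
      exact (cancel_mono _).1 ((cancel_epi _).1 a2)
    subst ht
    have h4 : θ ⟨T', p⟩ = θ₀ := by
      ext
      apply K744.IsomFp.hom_ext_of_comp h𝒴 (D.τ T' p)
      · have i1 : 𝒴.p.IsHomLift (𝟙 T') (θ ⟨T', p⟩).hom := hθ1 ⟨T', p⟩
        have i2 : 𝒴.p.IsHomLift (𝟙 T') θ₀.hom := hθ₀'
        rw [IsHomLift.fac' 𝒴.p (𝟙 T') (θ ⟨T', p⟩).hom, IsHomLift.fac' 𝒴.p (𝟙 T') θ₀.hom]
      · rw [← h2]
        erw [Iso.hom_inv_id_assoc, h2]
        exact hθ2 ⟨T', p⟩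
    subst h4
    exact ⟨⟨T', p⟩, Iso.refl _, IsHomLift.id rfl⟩

end

end K745.SpRep
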