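import Groth.Agent.AlgSt.K745.SpPt
import Groth.Agent.AlgSt.K745.SpRep

/-!
# The fibre product of a map to `[X/G]` (sheaf torsors) with `X ⟶ [X/G]` is the torsor (helper745)
-/

set_option autoImplicit false
set_option backward.isDefEq.respectTransparency false
set_option backward.isDefEq.respectTransparency.types false

universe w v u

open CategoryTheory CategoryTheory.Limits MonoidalCategory CartesianMonoidalCategory MonObj GrpObj AlgebraicGeometry
open AlgSt Opposite

namespace K745.SpFp

open K745.SpPt K745.SpRep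

variable {S : Scheme.{u}} {B : AlgSp.Sp S} {G : Over B} [GrpObj G]
variable {K : Precoverage Scheme.{u}} {X : Over B} {aX : AlgSp.GAction G X}

/-- the point of a sheaf given by a section -/
noncomputable abbrev sy {F : AlgSp.Sp S} {T : Over S} (p : F.obj.obj (op T)) : (AlgSp.yon S).obj T ⟶ F :=
  ((AlgSp.J S).uliftYonedaEquiv).symm p

theorem sy_comp {F F' : AlgSp.Sp S} {T : Over S} (p : F.obj.obj (op T)) (φ : F ⟶ F') :
    sy p ≫ φ = sy (φ.hom.app (op T) p) := by
  change ((AlgSp.J S).uliftYonedaEquiv).symm p ≫ φ = ((AlgSp.J S).uliftYonedaEquiv).symm _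
  rw [Equiv.eq_symm_apply]
  rw [GrothendieckTopology.uliftYonedaEquiv_comp, Equiv.apply_symm_apply]

theorem sy_injective {F : AlgSp.Sp S} {T : Over S} {p p' : F.obj.obj (op T)} (h : sy p = sy p') : p = p' :=
  ((AlgSp.J S).uliftYonedaEquiv).symm.injective h

theorem exists_sy {F : AlgSp.Sp S} {T : Over S} (q : (AlgSp.yon S).obj T ⟶ F) : ∃ p, sy p = q :=
  ((AlgSp.J S).uliftYonedaEquiv).symm.surjective q

theorem sy_down {T U : Over S} (p : ((AlgSp.yon S).obj U).obj.obj (op T)) : sy p = (AlgSp.yon S).map p.down := by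
  change ((AlgSp.J S).uliftYonedaEquiv).symm p = (AlgSp.J S).uliftYoneda.map _
  rw [Equiv.symm_apply_eq, GrothendieckTopology.uliftYonedaEquiv_uliftYoneda_map]
  rfl

theorem map_sy {F : AlgSp.Sp S} {a b : (ofSp F).obj} (g : a ⟶ b) : (AlgSp.yon S).map g.hom ≫ sy b.sec = sy a.sec := by
  change (AlgSp.J S).uliftYoneda.map g.hom ≫ ((AlgSp.J S).uliftYonedaEquiv).symm b.sec = _
  rw [GrothendieckTopology.uliftYonedaEquiv_symm_naturality_left, g.map_sec]

variable (A : SpQuotObj K G aX)

/-- the section of `X` under a section of the torsor -/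
abbrev sx {T : Over S} (p : A.P.left.obj.obj (op T)) : (ofSp X.left).obj := ⟨T, A.φ.left.hom.app (op T) p⟩

theorem secYon_sx {T : Over S} (p : A.P.left.obj.obj (op T)) : secYon (sx A p) = sy p ≫ A.φ.left :=
  (sy_comp p A.φ.left).symm

/-- the point over `B` of a section of the torsor -/
noncomputable def pp {T : Over S} (p : A.P.left.obj.obj (op T)) : tb (sx A p) ⟶ A.P :=
  Over.homMk (sy p) (by
    change sy p ≫ A.P.hom = secYon (sx A p) ≫ X.hom
    rw [secYon_sx, Category.assoc, Over.w A.φ])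

theorem pp_left {T : Over S} (p : A.P.left.obj.obj (op T)) : (pp A p).left = sy p := rfl

theorem pp_φ {T : Over S} (p : A.P.left.obj.obj (op T)) : pp A p ≫ A.φ = secOver (sx A p) := by
  apply Over.OverMorphism.ext
  exact (secYon_sx A p).symm

variable [K.HasIsos] {U : Over S} (y : FibCat.overCat U ⥤ᵇ SpQuotSt K G aX)

omit [K.HasIsos] in
theorem one_base : (one y : SpQuotObj K G aX).base = U := y.w_obj (Over.mk (𝟙 U))

/-- the structure morphism of the torsor of `y` -/
noncomputable def str : (one y : SpQuotObj K G aX).P.left ⟶ (AlgSp.yon S).obj U :=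
  (one y : SpQuotObj K G aX).π.left ≫ (AlgSp.yon S).map (eqToHom (one_base y))

omit [K.HasIsos] in
theorem ptBase_eqToHom {T : Over S} (p : (one y : SpQuotObj K G aX).P.left.obj.obj (op T)) :
    ptBase (one y : SpQuotObj K G aX) _ (pp _ p) ≫ eqToHom (one_base y) = πp (str y) p := by
  apply (AlgSp.yon S).map_injective
  rw [Functor.map_comp, map_ptBase, ← sy_down, ← sy_comp]
  change (pp _ p ≫ (one y : SpQuotObj K G aX).π).left ≫ _ = sy p ≫ (one y : SpQuotObj K G aX).π.left ≫ _
  rw [Over.comp_left, pp_left, Category.assoc]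

noncomputable def data : Data y (spQuotMap K G aX) (one y : SpQuotObj K G aX).φ.left (str y) where
  τ T p := tau (one y : SpQuotObj K G aX) (sx _ p) (pp _ p) (pp_φ _ p)
  lift T p := by
    apply IsHomLift.of_fac' (SpQuotSt K G aX).p _ _ rfl (one_base y)
    change ptBase (one y : SpQuotObj K G aX) _ (pp _ p) = 𝟙 _ ≫ πp (str y) p ≫ eqToHom _
    rw [← ptBase_eqToHom, Category.assoc, eqToHom_trans, eqToHom_refl, Category.comp_id, Category.id_comp]
  nat {a b} g := by
    apply hom_ext_pt (a := (ofSpMap (one y : SpQuotObj K G aX).φ.left).obj a)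
    refine (pt_map_comp ((ofSpMap (one y : SpQuotObj K G aX).φ.left).map g)
      (tau (one y : SpQuotObj K G aX) (sx _ b.sec) (pp _ b.sec) (pp_φ _ b.sec))).trans ?_
    refine (congrArg (tbMap ((ofSpMap (one y : SpQuotObj K G aX).φ.left).map g) ≫ ·)
      (pt_tau (one y : SpQuotObj K G aX) (sx _ b.sec) (pp _ b.sec) (pp_φ _ b.sec))).trans ?_
    refine Eq.trans ?_ (pt_tau _ _ _ _).symm
    apply Over.OverMorphism.ext
    exact map_sy g
  ex T x ρ := by
    obtain ⟨p, hp⟩ : ∃ p : (one y : SpQuotObj K G aX).P.left.obj.obj (op T), sy p = (pt (a := ⟨T, x⟩) ρ).left :=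
      exists_sy _
    have hx : (one y : SpQuotObj K G aX).φ.left.hom.app _ p = x := by
      apply sy_injective
      rw [← sy_comp, hp]
      exact congrArg (fun k => k.left) (pt_φ (a := ⟨T, x⟩) ρ)
    subst hx
    refine ⟨p, rfl, ?_⟩
    apply hom_ext_pt (a := sx _ p)
    refine (pt_map_comp (eqHom rfl : (sx _ p : (ofSp X.left).obj) ⟶ sx _ p) ρ).trans ?_
    refine Eq.trans ?_ (pt_tau _ _ _ _).symm
    apply Over.OverMorphism.ext
    change (AlgSp.yon S).map (𝟙 T) ≫ (pt (a := sx _ p) ρ).left = sy p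
    rw [(AlgSp.yon S).map_id, Category.id_comp]
    exact hp.symm
  inj T p p' h e := by
    have h1 := congrArg (pt (a := sx _ p)) e
    have h2 := (pt_map_comp (a := sx _ p) (b := sx _ p') (eqHom h)
      (tau (one y : SpQuotObj K G aX) (sx _ p') (pp _ p') (pp_φ _ p'))).symm.trans h1
    rw [pt_tau] at h2
    have h3 := h2.trans (pt_tau _ _ _ _)
    have h4 : (AlgSp.yon S).map (𝟙 T) ≫ sy p' = sy p := congrArg (fun k => k.left) h3
    rw [(AlgSp.yon S).map_id, Category.id_comp] at h4
    exact (sy_injective h4).symm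

/-- **The fibre product of `y : (Sch/U) ⟶ [X/G]` with `X ⟶ [X/G]` is the torsor of `y`.** -/
theorem exists_isEquivOver [K.IsStableUnderBaseChange] :
    ∃ e : ofSp (one y : SpQuotObj K G aX).P.left ⥤ᵇ FibCat.fp y (spQuotMap K G aX), FibCat.IsEquivOver e ∧
      BasedFunctor.comp e (FibCat.fpFst y (spQuotMap K G aX)) = F1 (str y) ∧
      BasedFunctor.comp e (FibCat.fpSnd y (spQuotMap K G aX)) = ofSpMap (one y : SpQuotObj K G aX).φ.left :=
  SpRep.exists_isEquivOver K744.SpQ.isFibGrpd (data y)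

end K745.SpFp
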