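import Groth.Agent.AlgSt.K745.SpFp
import Groth.Agent.AlgSt.K744.SpAlg
import Groth.Agent.AlgSt.K735.Rep
import Groth.Agent.AlgSt.K734.Props

/-!
# Properties of `X ⟶ [X/G]` for sheaf torsors (helper745)

`K745.SpMap.repByAlgSpWith_spQuotMap`: a property of morphisms of algebraic spaces stable under base change and fppf local
on the base passes from `G ⟶ B` to `X ⟶ [X/G]` (`h104` is the statement of S10104).
-/

set_option autoImplicit false
set_option backward.isDefEq.respectTransparency false
set_option backward.isDefEq.respectTransparency.types false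

universe w v u

open CategoryTheory CategoryTheory.Limits MonoidalCategory CartesianMonoidalCategory MonObj GrpObj AlgebraicGeometry
open AlgSt AlgSp Opposite

namespace K745.SpMap

open K745.SpPt K745.SpRep K745.SpFp

variable {S : Scheme.{u}} {B : AlgSp.Sp S} {G : Over B} [GrpObj G]

theorem isFppfCover_yon {V W : Over S} (g : V ⟶ W)
    (hfl : Flat g.left) (hfp : LocallyOfFinitePresentation g.left) (hs : Surjective g.left) :
    AlgSp.IsFppfCover (fun _ : PUnit.{u + 1} => (yon S).obj V) (fun _ => (yon S).map g) := by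
  refine ⟨fun i => ⟨?_, ?_⟩, ?_⟩
  · exact K597.locP_of_repWith (P := @Flat)
        (fun _ _ _ e f he hf => by have := he; have := hf; infer_instance)
        ((AlgSp.repWith_yon_map_iff _ _).2 hfl)
  · exact K597.locP_of_repWith (P := @LocallyOfFinitePresentation)
        (fun _ _ _ e f he hf => by have := he; have := hf; infer_instance)
        ((AlgSp.repWith_yon_map_iff _ _).2 hfp)
  · intro x
    obtain ⟨w, rfl⟩ := K609.Points.ofScheme_surjective W x
    obtain ⟨t, ht⟩ := hs.surj w
    refine ⟨⟨⟩, AlgSp.Points.ofScheme V t, ?_⟩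
    exact (K609.Points.map_yon_map_ofScheme g t).trans (by rw [ht])

variable {X : Over B} {aX : AlgSp.GAction G X}

omit [GrpObj G] in
theorem isPullback_G (T : Over B) : IsPullback (fst G T).left (snd G T).left G.hom T.hom := by
  have h := K744.SpQ.isPullback_left (isPullback_fst_snd' G T)
  have e1 : (toUnit G).left = G.hom := by
    have := Over.w (toUnit G)
    exact (Category.comp_id _).symm.trans this
  have e2 : (toUnit T).left = T.hom := by
    have := Over.w (toUnit T)
    exact (Category.comp_id _).symm.trans this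
  rw [e1, e2] at h
  exact h

section

variable (h104 : ∀ (F : Sp S) (U : Space S) (p : U.obj ⟶ F),
      RepBySpWith (IsSurjectiveMor ⊓ LocP @Flat ⊓ LocP @LocallyOfFinitePresentation) p.hom → IsAlgSpace F)
    (hB : IsAlgSpace B) (hG : IsAlgSpace G.left)

include h104 hB hG

/-- properties of `G ⟶ B` pass to torsors -/
theorem prop_π {Q : MorphismProperty (Sp S)} (hQ : K734.Rep.Nice Q) (h : Q G.hom)
    (A : SpQuotObj Scheme.fppfPrecoverage G aX) : Q A.π.left := by
  obtain ⟨V, p, y, hf, hp, hs, hy⟩ := K744.SpAlg.exists_section A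
  obtain ⟨a, sq⟩ := K744.SpAlg.isPullback_of_section A p y hy
  have sq' := K744.SpQ.isPullback_left sq
  have hA : IsAlgSpace (G ⊗ Over.mk ((yon S).map p ≫ A.b)).left :=
    K608.Comp.isAlgSpace_of_isPullback (K744.SpQ.isPullback_left (isPullback_fst_snd' G (Over.mk ((yon S).map p ≫ A.b))))
      hG (IsAlgSpace.yon_obj V) hB
  refine (hQ.loc (fun _ : PUnit.{u + 1} => (yon S).obj V) (fun _ => (yon S).map p) (IsAlgSpace.yon_obj _)
    (fun _ => IsAlgSpace.yon_obj _) (isFppfCover_yon p hf hp hs) A.π.left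
    (K744.SpAlg.isAlgSpace_P h104 hB hG A) (fun _ => (G ⊗ Over.mk ((yon S).map p ≫ A.b)).left)
    (fun _ => (snd G (Over.mk ((yon S).map p ≫ A.b))).left) (fun _ => a.left) (fun _ => hA) (fun _ => sq')).2 ?_
  intro _
  exact hQ.bc hG hB hA (IsAlgSpace.yon_obj V) _ _ _ _ (isPullback_G (Over.mk ((yon S).map p ≫ A.b))) h

theorem prop_str {Q : MorphismProperty (Sp S)} (hQ : K734.Rep.Nice Q) (h : Q G.hom) {U : Over S}
    (y : FibCat.overCat U ⥤ᵇ SpQuotSt Scheme.fppfPrecoverage G aX) : Q (str y) := by
  have h1 := prop_π h104 hB hG hQ h (one y : SpQuotObj _ G aX)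
  have hP := K744.SpAlg.isAlgSpace_P h104 hB hG (one y : SpQuotObj _ G aX)
  refine hQ.bc hP (IsAlgSpace.yon_obj _) hP (IsAlgSpace.yon_obj _) _ ((yon S).map (eqToHom (one_base y).symm)) (str y)
    (𝟙 _) (IsPullback.of_horiz_isIso ⟨?_⟩) h1
  rw [str, Category.assoc, ← Functor.map_comp, eqToHom_trans, eqToHom_refl, (yon S).map_id]
  exact (Category.id_comp _).trans (Category.comp_id _).symm

/-- **Properties of `X ⟶ [X/G]`.** -/
theorem repByAlgSpWith_spQuotMap {Q : MorphismProperty (Sp S)} (hQ : K734.Rep.Nice Q) (h : Q G.hom) :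
    RepByAlgSpWith Q (spQuotMap Scheme.fppfPrecoverage G aX) := by
  intro U y
  obtain ⟨e, he, h1, h2⟩ := SpFp.exists_isEquivOver y
  refine ⟨⟨_, K744.SpAlg.isAlgSpace_P h104 hB hG (one y : SpQuotObj _ G aX)⟩, e, he, ?_⟩
  rw [h1]
  rw [K735.Rep.spMapOfOver_ofSpMap_toOverCat]
  exact prop_str h104 hB hG hQ h y

end

/-- a group object is surjective over the base -/
theorem surjective_G : IsSurjectiveMor G.hom := by
  intro b
  have h : (η[G]).left ≫ G.hom = 𝟙 B := Over.w η[G]
  refine ⟨Points.map (η[G]).left b, ?_⟩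
  have e : Points.map ((η[G]).left ≫ G.hom) b = b := by
    rw [h]
    exact Points.map_id b
  rw [Points.map_comp] at e
  exact e

end K745.SpMap
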