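import Groth.Agent.AlgSt.K744.SpQFib

/-!
# `[X/G]` with sheaf torsors: arrows from trivial torsors are points of the torsor (helper745)
-/

set_option autoImplicit false
set_option backward.isDefEq.respectTransparency false
set_option backward.isDefEq.respectTransparency.types false

universe w v u

open CategoryTheory CategoryTheory.Limits MonoidalCategory CartesianMonoidalCategory MonObj GrpObj AlgebraicGeometry
open AlgSt

namespace K745.SpPt

variable {S : Scheme.{u}} {B : AlgSp.Sp S} {G : Over B} [GrpObj G]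

section Sm

variable {X : Over B} (a : AlgSp.GAction G X)

/-- The action on `T`-points. -/
noncomputable def sm {T : Over B} (g : T ⟶ G) (x : T ⟶ X) : T ⟶ X := lift g x ≫ a.act

lemma comp_sm {T T' : Over B} (t : T' ⟶ T) (g : T ⟶ G) (x : T ⟶ X) :
    t ≫ sm a g x = sm a (t ≫ g) (t ≫ x) := by
  simp only [sm, ← Category.assoc, comp_lift]

lemma one_sm {T : Over B} (x : T ⟶ X) : sm a (1 : T ⟶ G) x = x := by
  have h := a.one_act
  have : lift (1 : T ⟶ G) x = lift (toUnit T) x ≫ (η[G] ▷ X) := by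
    rw [lift_whiskerRight, Hom.one_def]
  rw [sm, this, Category.assoc, h]
  simp

lemma mul_sm {T : Over B} (g h : T ⟶ G) (x : T ⟶ X) :
    sm a (g * h) x = sm a g (sm a h x) := by
  have hm := a.mul_act
  have : lift (g * h) x = lift (lift g h) x ≫ (μ[G] ▷ X) := by
    rw [lift_whiskerRight, Hom.mul_def]
  rw [sm, this, Category.assoc, hm]
  simp [sm]

/-- equivariance on points -/
lemma sm_comp_of_eqv {P P' : Over B} {a : AlgSp.GAction G P} {a' : AlgSp.GAction G P'} {f : P ⟶ P'}
    (h : a.act ≫ f = (G ◁ f) ≫ a'.act) {T : Over B} (g : T ⟶ G) (p : T ⟶ P) :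
    sm a g p ≫ f = sm a' g (p ≫ f) := by
  rw [sm, sm, Category.assoc, h, ← Category.assoc]
  congr 1
  simp

/-- equivariance from points -/
lemma eqv_of_sm_comp {P P' : Over B} {a : AlgSp.GAction G P} {a' : AlgSp.GAction G P'} {f : P ⟶ P'}
    (h : ∀ {T : Over B} (g : T ⟶ G) (p : T ⟶ P), sm a g p ≫ f = sm a' g (p ≫ f)) :
    a.act ≫ f = (G ◁ f) ≫ a'.act := by
  have := h (fst G P) (snd G P)
  rw [sm, lift_fst_snd, Category.id_comp, sm] at this
  rw [this]
  congr 1

lemma sm_spLeftMul {T Y : Over B} (g : Y ⟶ G) (h : Y ⟶ G ⊗ T) :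
    sm (spLeftMul G T) g h = lift (g * (h ≫ fst G T)) (h ≫ snd G T) := by
  rw [sm, spLeftMul]
  apply CartesianMonoidalCategory.hom_ext
  · rw [Category.assoc, lift_fst, lift_fst, comp_mul, lift_fst, lift_snd_assoc]
  · rw [Category.assoc, lift_snd, lift_snd, lift_snd_assoc]

/-- the unit point of the trivial torsor. -/
noncomputable def unitPt (G : Over B) [GrpObj G] (T : Over B) : T ⟶ G ⊗ T := lift (toUnit T ≫ η[G]) (𝟙 T)

lemma unitPt_fst (T : Over B) : unitPt G T ≫ fst G T = 1 := by rw [unitPt, lift_fst, Hom.one_def]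

lemma unitPt_snd (T : Over B) : unitPt G T ≫ snd G T = 𝟙 T := lift_snd _ _

end Sm

variable {K : Precoverage Scheme.{u}} {X : Over B} {aX : AlgSp.GAction G X}

/-- the action is invariant for `π` -/
lemma sm_comp_π (A : SpQuotObj K G aX) {T : Over B} (g : T ⟶ G) (p : T ⟶ A.P) : sm A.act g p ≫ A.π = p ≫ A.π := by
  rw [sm, Category.assoc, A.cart.w, lift_snd_assoc]

/-- the base of the trivial torsor over a section of `X` -/
noncomputable abbrev tb (a : (ofSp X.left).obj) : Over B := Over.mk (secYon a ≫ X.hom)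

variable [K.HasIsos]

/-- the morphism of schemes over `S` under a point of a torsor -/
noncomputable def ptBase (A : SpQuotObj K G aX) (a : (ofSp X.left).obj) (p : tb a ⟶ A.P) : a.base ⟶ A.base :=
  (AlgSp.yon S).preimage (p ≫ A.π).left

omit [K.HasIsos] in
lemma map_ptBase (A : SpQuotObj K G aX) (a : (ofSp X.left).obj) (p : tb a ⟶ A.P) :
    (AlgSp.yon S).map (ptBase A a p) = (p ≫ A.π).left := Functor.map_preimage _ _

omit [K.HasIsos] in
lemma ptBase_wb (A : SpQuotObj K G aX) (a : (ofSp X.left).obj) (p : tb a ⟶ A.P) :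
    (AlgSp.yon S).map (ptBase A a p) ≫ A.b = secYon a ≫ X.hom := by
  rw [map_ptBase]
  exact Over.w (p ≫ A.π)

omit [K.HasIsos] in
lemma bHom_ptBase (A : SpQuotObj K G aX) (a : (ofSp X.left).obj) (p : tb a ⟶ A.P) :
    bHom (ptBase A a p) (ptBase_wb A a p) = p ≫ A.π := by
  ext : 1
  exact map_ptBase A a p

/-- An arrow from the trivial torsor with equivariant map given by `x` to `A` is the same as a point of `A` over `x`:
from the point to the arrow. -/
noncomputable def tau (A : SpQuotObj K G aX) (a : (ofSp X.left).obj) (p : tb a ⟶ A.P)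
    (h : p ≫ A.φ = secOver a) : (spQuotMap K G aX).obj a ⟶ A where
  base := ptBase A a p
  wb := ptBase_wb A a p
  top := sm A.act (fst G (tb a)) (snd G (tb a) ≫ p)
  eqv := by
    change (spLeftMul G (tb a)).act ≫ _ = (G ◁ _) ≫ A.act.act
    apply eqv_of_sm_comp
    intro T g q
    rw [sm_spLeftMul, comp_sm, lift_fst, lift_snd_assoc, mul_sm, comp_sm, Category.assoc]
  cart := by
    rw [bHom_ptBase]
    change IsPullback (sm A.act (fst G (tb a)) (snd G (tb a) ≫ p)) (snd G (tb a)) A.π (p ≫ A.π)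
    have h1 : IsPullback (G ◁ p) (snd G (tb a)) (snd G A.P) p := isPullback_whiskerLeft' p
    have h2 := h1.paste_horiz A.cart
    have e : sm A.act (fst G (tb a)) (snd G (tb a) ≫ p) = (G ◁ p) ≫ A.act.act := by
      rw [sm]
      congr 1
    rw [e]
    exact h2
  wφ := by
    change sm A.act (fst G (tb a)) (snd G (tb a) ≫ p) ≫ A.φ = (G ◁ secOver a) ≫ aX.act
    rw [sm_comp_of_eqv A.eqv, Category.assoc, h, sm]
    congr 1

lemma tau_base (A : SpQuotObj K G aX) (a : (ofSp X.left).obj) (p : tb a ⟶ A.P)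
    (h : p ≫ A.φ = secOver a) : (tau A a p h).base = ptBase A a p := rfl

lemma tau_top (A : SpQuotObj K G aX) (a : (ofSp X.left).obj) (p : tb a ⟶ A.P)
    (h : p ≫ A.φ = secOver a) : (tau A a p h).top = sm A.act (fst G (tb a)) (snd G (tb a) ≫ p) := rfl

/-- from the arrow to the point. -/
noncomputable def pt {A : SpQuotObj K G aX} {a : (ofSp X.left).obj} (σ : (spQuotMap K G aX).obj a ⟶ A) :
    tb a ⟶ A.P := unitPt G (tb a) ≫ σ.top

lemma pt_φ {A : SpQuotObj K G aX} {a : (ofSp X.left).obj} (σ : (spQuotMap K G aX).obj a ⟶ A) :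
    pt σ ≫ A.φ = secOver a := by
  rw [pt, Category.assoc, σ.wφ]
  change unitPt G (tb a) ≫ (G ◁ secOver a) ≫ aX.act = _
  have : unitPt G (tb a) ≫ (G ◁ secOver a) = lift 1 (secOver a) := by
    apply CartesianMonoidalCategory.hom_ext
    · rw [Category.assoc, whiskerLeft_fst, lift_fst, unitPt_fst]
    · rw [Category.assoc, whiskerLeft_snd, lift_snd, ← Category.assoc, unitPt_snd, Category.id_comp]
  rw [← Category.assoc, this]
  exact one_sm aX (secOver a)

lemma pt_π {A : SpQuotObj K G aX} {a : (ofSp X.left).obj} (σ : (spQuotMap K G aX).obj a ⟶ A) :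
    pt σ ≫ A.π = bHom σ.base σ.wb := by
  rw [pt, Category.assoc, σ.cart.w]
  change unitPt G (tb a) ≫ snd G (tb a) ≫ bHom σ.base σ.wb = _
  rw [← Category.assoc, unitPt_snd, Category.id_comp]

lemma ptBase_pt {A : SpQuotObj K G aX} {a : (ofSp X.left).obj} (σ : (spQuotMap K G aX).obj a ⟶ A) :
    ptBase A a (pt σ) = σ.base := by
  apply (AlgSp.yon S).map_injective
  rw [map_ptBase, pt_π]
  rfl

lemma pt_tau (A : SpQuotObj K G aX) (a : (ofSp X.left).obj) (p : tb a ⟶ A.P)
    (h : p ≫ A.φ = secOver a) : pt (tau A a p h) = p := by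
  rw [pt, tau_top, comp_sm, unitPt_fst, one_sm, ← Category.assoc, unitPt_snd, Category.id_comp]

/-- an arrow from a trivial torsor is determined by its point. -/
lemma top_eq {A : SpQuotObj K G aX} {a : (ofSp X.left).obj} (σ : (spQuotMap K G aX).obj a ⟶ A) :
    σ.top = sm A.act (fst G (tb a)) (snd G (tb a) ≫ pt σ) := by
  rw [pt]
  have h1 := sm_comp_of_eqv (a := spLeftMul G (tb a)) (a' := A.act) σ.eqv (fst G (tb a))
    (snd G (tb a) ≫ unitPt G (tb a))
  rw [Category.assoc] at h1
  refine Eq.trans ?_ h1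
  rw [sm_spLeftMul]
  have : lift (fst G (tb a) * ((snd G (tb a) ≫ unitPt G (tb a)) ≫ fst G (tb a)))
      ((snd G (tb a) ≫ unitPt G (tb a)) ≫ snd G (tb a)) = 𝟙 _ := by
    rw [Category.assoc, Category.assoc, unitPt_fst, unitPt_snd, comp_one, _root_.mul_one, Category.comp_id, lift_fst_snd]
  rw [this, Category.id_comp]

lemma tau_pt {A : SpQuotObj K G aX} {a : (ofSp X.left).obj} (σ : (spQuotMap K G aX).obj a ⟶ A) :
    tau A a (pt σ) (pt_φ σ) = σ :=
  SpQuotObj.hom_ext (by rw [tau_base, ptBase_pt]) (by rw [tau_top, ← top_eq])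

lemma hom_ext_pt {A : SpQuotObj K G aX} {a : (ofSp X.left).obj} {σ σ' : (spQuotMap K G aX).obj a ⟶ A}
    (h : pt σ = pt σ') : σ = σ' := by
  rw [← tau_pt σ, ← tau_pt σ']
  congr 1

lemma pt_comp {A C : SpQuotObj K G aX} {a : (ofSp X.left).obj} (σ : (spQuotMap K G aX).obj a ⟶ A) (f : A ⟶ C) :
    pt (σ ≫ f) = pt σ ≫ f.top := by
  rw [pt, pt, SpQuotObj.comp_top, Category.assoc]

/-- the morphism over `B` under an arrow of sections -/
noncomputable def tbMap {a b : (ofSp X.left).obj} (f : a ⟶ b) : tb a ⟶ tb b :=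
  bHom f.hom (show (AlgSp.yon S).map f.hom ≫ secYon b ≫ X.hom = secYon a ≫ X.hom by rw [← Category.assoc, secYon_comp])

lemma pt_map_comp {A : SpQuotObj K G aX} {a b : (ofSp X.left).obj} (f : a ⟶ b)
    (σ : (spQuotMap K G aX).obj b ⟶ A) : pt ((spQuotMap K G aX).map f ≫ σ) = tbMap f ≫ pt σ := by
  rw [pt, pt, SpQuotObj.comp_top]
  change unitPt G (tb a) ≫ (G ◁ tbMap f) ≫ σ.top = tbMap f ≫ unitPt G (tb b) ≫ σ.top
  rw [← Category.assoc, ← Category.assoc]
  congr 1
  apply CartesianMonoidalCategory.hom_ext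
  · rw [Category.assoc, whiskerLeft_fst, unitPt_fst, Category.assoc, unitPt_fst, comp_one]
  · rw [Category.assoc, whiskerLeft_snd, Category.assoc, unitPt_snd, ← Category.assoc, unitPt_snd, Category.comp_id,
      Category.id_comp]

end K745.SpPt
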