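import Groth.Agent.AlgSt.K745.SpAtlas
import Groth.Agent.AlgSt.K744.TorsProp
import Groth.Agent.AlgSt.K744.AlgOver
import Groth.Agent.AlgSt.K740.DiagRep
import Groth.Agent.AlgSt.K738.LftDiag
import Groth.Agent.AlgSt.K734.Fib
import Groth.Agent.S0115

/-!
# Smoothness of `BG` for sheaf torsors over the base scheme (helper745)

`K745.SpSm.locQ_of_atlas`: for `G ⟶ h_S` flat and locally of finite presentation, a smooth atlas `V ⟶ BG` has `V ⟶ S`
smooth, so `BG ⟶ S` is smooth (`h104` is the statement of S10104).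
-/

set_option autoImplicit false
set_option backward.isDefEq.respectTransparency false
set_option backward.isDefEq.respectTransparency.types false

universe w v u

open CategoryTheory CategoryTheory.Limits MonoidalCategory CartesianMonoidalCategory MonObj GrpObj AlgebraicGeometry
open AlgSt AlgSp Opposite

namespace K745.SpSm

variable {S : Scheme.{u}}

/-- descent of smoothness over the base along a flat lfp surjective map from an algebraic space -/
theorem smooth_of {F : Sp S} (hF : IsAlgSpace F) {V : Over S} (a : F ⟶ (yon S).obj V)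
    (h1 : LocP @Flat a) (h2 : LocP @LocallyOfFinitePresentation a) (h3 : IsSurjectiveMor a)
    (b : F ⟶ (yon S).obj (Over.mk (𝟙 S))) (hb : LocP @Smooth b) : Smooth V.hom := by
  obtain ⟨W, p, hp, hp'⟩ := hF.atlas
  have hid : ∀ T : Over S, RepWith @Etale (𝟙 ((yon S).obj T)) := fun T => by
    have := K597.etale_map (𝟙 T) (by rw [Over.id_left]; infer_instance)
    rwa [(yon S).map_id] at this
  let g : W ⟶ V := (yon S).preimage (p ≫ a)
  have hg : (yon S).map g = p ≫ a := (yon S).map_preimage _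
  have e1 : Flat g.left := h1 p (𝟙 _) g hp (hid V) (by rw [hg, Category.comp_id])
  have e2 : LocallyOfFinitePresentation g.left := h2 p (𝟙 _) g hp (hid V) (by rw [hg, Category.comp_id])
  have e3 : Surjective g.left := by
    refine ⟨fun x => ?_⟩
    obtain ⟨y, hy⟩ := h3 (Points.ofScheme V x)
    obtain ⟨z, hz⟩ := K609.Points.surjective_map_of_repWith_surjective hp' y
    obtain ⟨t, rfl⟩ := K609.Points.ofScheme_surjective W z
    refine ⟨t, K609.Points.ofScheme_injective V ?_⟩
    rw [← K609.Points.map_yon_map_ofScheme g t, hg, Points.map_comp, hz, hy]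
  let k : W ⟶ Over.mk (𝟙 S) := (yon S).preimage (p ≫ b)
  have hk : (yon S).map k = p ≫ b := (yon S).map_preimage _
  have e4 : Smooth k.left := hb p (𝟙 _) k hp (hid _) (by rw [hk, Category.comp_id])
  have e5 : k.left = g.left ≫ V.hom := by
    have := Over.w k
    rw [Over.w g]
    exact (Category.comp_id _).symm.trans this
  have e6 : Smooth (g.left ≫ V.hom) := e5 ▸ e4
  exact Groth.Agent.S0115.result g.left V.hom

section

variable {G : Over ((AlgSp.yon S).obj (Over.mk (𝟙 S)))} [GrpObj G]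

/-- the trivial torsor over `S` -/
noncomputable abbrev pt (G : Over ((AlgSp.yon S).obj (Over.mk (𝟙 S)))) [GrpObj G] :
    FibCat.overCat (Over.mk (𝟙 S)) ⥤ᵇ SpBG Scheme.fppfPrecoverage G :=
  BasedFunctor.comp (ofOverCat (Over.mk (𝟙 S))) (spQuotMap Scheme.fppfPrecoverage G (trivGAction G))

theorem isEquivOver_ofOverCat (U : Over S) : FibCat.IsEquivOver (ofOverCat U) :=
  K735.Rep.isEquivOver_ofOverCat U

theorem repByAlgSpWith_pt
    (h104 : ∀ (F : Sp S) (U : Space S) (p : U.obj ⟶ F),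
      RepBySpWith (IsSurjectiveMor ⊓ LocP @Flat ⊓ LocP @LocallyOfFinitePresentation) p.hom → IsAlgSpace F)
    (hG : IsAlgSpace G.left) {Q : MorphismProperty (Sp S)} (hQ : K734.Rep.Nice Q) (h : Q G.hom) :
    RepByAlgSpWith Q (pt G) := by
  have h1 := SpMap.repByAlgSpWith_spQuotMap (aX := trivGAction G) h104 (IsAlgSpace.yon_obj _) hG hQ h
  refine (K735.Rep.repByAlgSpWith_iff_of_sq Q (pt G) (spQuotMap Scheme.fppfPrecoverage G (trivGAction G))
    (toOverCat _) (BasedFunctor.id _) (K735.Rep.isEquivOver_toOverCat _) (K734.Fib.isEquivOver_refl _) ?_).2 h1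
  exact Iso.refl _

/-- **`BG ⟶ S` is smooth** as soon as `BG` has a smooth atlas. -/
theorem locQ_of_atlas
    (h104 : ∀ (F : Sp S) (U : Space S) (p : U.obj ⟶ F),
      RepBySpWith (IsSurjectiveMor ⊓ LocP @Flat ⊓ LocP @LocallyOfFinitePresentation) p.hom → IsAlgSpace F)
    (hG : IsAlgSpace G.left) (hf : LocP (@Flat ⊓ @LocallyOfFinitePresentation) G.hom)
    (hat : AlgSt.HasAtlas (LocP @Smooth) (SpBG Scheme.fppfPrecoverage G)) :
    LocQ (LocP @Smooth) (FibCat.toSelf (SpBG Scheme.fppfPrecoverage G)) := by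
  obtain ⟨V, v, hv, hvs⟩ := hat
  obtain ⟨hf1, hf2⟩ := (SpAtlas.locP_inf_iff G.hom).1 hf
  have hsm : Smooth V.hom := by
    obtain ⟨F, e, he, hsF⟩ := hv _ (pt G)
    obtain ⟨F', e', he', hQF⟩ := repByAlgSpWith_pt h104 hG
      ((K734.Rep.nice_surj.inf K734.Rep.nice_flat).inf K734.Rep.nice_lfp) ⟨⟨SpMap.surjective_G, hf1⟩, hf2⟩ V v
    obtain ⟨i, -⟩ := K735.Rep.exists_iso_of_rep (BasedFunctor.comp e' (K734.Fib.fpSwap v (pt G))) e
      (K734.Fib.isEquivOver_comp he' (K734.Fib.isEquivOver_fpSwap v (pt G))) he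
    refine smooth_of F'.property _ hQF.1.2 hQF.2 hQF.1.1 (i.hom ≫ spMapOfOver (BasedFunctor.comp e (FibCat.fpFst _ _))) ?_
    exact K734.Rep.nice_smooth.bc F.property (IsAlgSpace.yon_obj _) F'.property (IsAlgSpace.yon_obj _) _ (𝟙 _) _ i.hom
      (IsPullback.of_horiz_isIso ⟨by rw [Category.comp_id]⟩) hsF
  have hT : FibCat.IsEquivOver (FibCat.toSelf (FibCat.overCat (Over.mk (𝟙 S)))) :=
    K740.DiagRep.isEquivOver_toSelf_overCat Over.mkIdTerminal
  refine ⟨V, Over.mk (𝟙 S), v, FibCat.toSelf (FibCat.overCat (Over.mk (𝟙 S))), Over.homMk V.hom, ?_, hv, hvs,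
    K744.AlgOver.repByAlgSpWith_of_isEquivOver _ hT _ (fun U => ?_), ?_⟩
  · exact eqToIso ((K738.Lft.comp_toSelf v).trans (K738.Lft.comp_toSelf _).symm)
  · have := K744.TorsProp.locP_yon @Smooth K597.etLoc_smooth (𝟙 U) (by rw [Over.id_left]; infer_instance)
    rw [(AlgSp.yon S).map_id] at this
    exact this
  · exact K744.TorsProp.locP_yon _ K597.etLoc_smooth _ hsm

end

end K745.SpSm
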